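import Cfsg.Agent.H633.Ore.Co2Cover
import Cfsg.Agent.H68.Ore.Co2Words

/-!
# Row `Co2` of the Ore conjecture (helper633)
-/

set_option autoImplicit false

namespace Cfsg.Agent.H633.Ore.Co2

open Cfsg Cfsg.Agent.H777.Ore Cfsg.Agent.H68.Ore

theorem reps_cw : reps = Co2Words.L.map Words.cw := by decide +kernel

/-- every element of `Co2` is a commutator -/
theorem allC_co2 : AllC Spor.Co2 := Words.allC_of_cover (tt := tt) tt_sq reps_cw cover

/-- every element of `Co2` is a product of four elements with square one -/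
theorem inv4_co2 : Inv4 Spor.Co2 := Words.inv4_of_cover (tt := tt) tt_sq reps_cw (by decide +kernel) cover

/-- **Row `Co2` of S2443.** -/
theorem ore_co2 {S : Type*} [Group S] (h : Spor.IsoCo2 S) : AllC S := by
  obtain ⟨e⟩ := h
  exact AllC.congr e.symm allC_co2

/-- **Row `Co2` of S4171.** -/
theorem four_co2 {S : Type*} [Group S] (h : Spor.IsoCo2 S) : Inv4 S := by
  obtain ⟨e⟩ := h
  exact Words.I4.congr' e.symm inv4_co2

end Cfsg.Agent.H633.Ore.Co2
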