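import Cfsg.Agent.H633.Ore.Co2Chk

/-!
# Certificates for the centralizers in `Co2` (helper633)
-/

set_option autoImplicit false

namespace Cfsg.Agent.H633.Ore.Co2.C2

/-- 11: order 4, 73728 -/
def w11 : List ℕ := [1, 0, 1, 0]

def s11 : List Step := [.fixd 0 2 0, .fixd 1 2 1, .fixd 0 1 1, .self 2 1 0, .self 3 1 1, .cnt 1 2 0 18, .cnt 3 3 0 28, .base 2 895 1152 [0, 1, 2, 3], .and 6 3, .and 8 4, .andn 9 5, .and 8 6, .and 3 6, .and 3 7, .andn 4 8, .and 4 9, .andn 5 10, .and 4 10, .andn 5 11, .and 5 12, .and 5 13, .andn 5 14, .andn 5 15, .and 5 15, .andn 6 16, .andn 6 17, .and 6 18, .andn 6 19, .and 6 20, .andn 6 21, .andn 1 26, .cnt 5 19 0 2, .cnt 5 20 0 0, .cnt 5 21 0 0, .cnt 3 22 0 2, .cnt 4 23 0 4, .cnt 6 24 0 0, .cnt 12 1 0 1, .cnt 5 2 0 1, .cnt 4 3 0 2, .cnt 16 6 0 0, .cnt 1 7 0 4, .base 0 187 64 [0, 1, 2, 3], .and 6 3, .and 10 4, .and 17 5, .andn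 18 6, .and 12 7, .andn 13 8, .and 16 9, .and 6 9, .and 6 10, .andn 6 11, .and 6 12, .andn 6 13, .and 6 14, .andn 7 15, .and 7 16, .and 7 16, .andn 8 17, .and 8 18, .andn 9 19, .andn 9 20, .andn 9 21, .and 3 21, .andn 4 22, .and 4 23, .cnt 2 12 0 0, .cnt 3 13 0 1, .cnt 3 14 0 0, .cnt 4 15 0 1, .cnt 4 16 0 1, .cnt 4 16 0 0, .cnt 3 17 0 0, .cnt 1 17 0 0, .cnt 1 18 0 0, .cnt 2 19 0 1, .cnt 18 19 0 0, .cnt 19 20 0 1, .cnt 19 21 0 0, .cnt 1 17 0 0, .cnt 3 17 0 0, .cnt 4 18 0 1, .cnt 3 19 0 0, .cnt 1 15 0 0, .cnt 3 14 0 0, .cnt 4 15 0 1, .cnt 6 15 0 0, .base 2 1380 1 [0, 1, 2, 3], .base 6 290 1 [0], .base 10 1212 1 [0], .base 9 208 1 [0, 1], .base 16 1648 1 [0], .base 27 1009 1 [0, 1, 2], .base 30 2027 1 [0], .base 31 1267 1 [0], .fin [1015009, 1933016, 567138, 2299380, 2326636, 548046, 2643218, 3722052, 1141314, 4156116, 2283484, 527583, 3254024, 3406407, 917165,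 1303402, 3919198, 1762661, 1078836, 390767, 3787427, 473836]]

theorem k11 : chkW w11 4 s11 = true := by decide +kernel

theorem b11 : prodB s11 = 73728 := by decide +kernel

/-- 12: order 4, 3096576 -/
def w12 : List ℕ := [2, 0, 1, 2, 0, 1, 2, 1, 2, 0, 2, 1, 0, 2, 0, 1, 2, 0, 2, 1, 2, 1, 0, 2, 1, 0]

def s12 : List Step := [.fixd 0 2 0, .fixd 1 2 1, .fixd 0 1 0, .base 0 2144 256 [0, 1], .and 5 1, .andn 6 2, .and 5 3, .andn 6 4, .and 3 4, .andn 4 5, .and 4 6, .andn 5 7, .and 5 8, .andn 6 9, .and 6 10, .andn 7 11, .andn 1 14, .cnt 3 4 0 24, .base 9 1974 756 [0, 1, 2], .and 13 2, .andn 14 3, .andn 14 4, .and 14 5, .and 14 6, .andn 15 7, .and 15 8, .andn 16 9, .and 12 10, .and 14 11, .and 16 12, .and 10 12, .andn 10 13, .andn 10 14, .and 10 15, .and 10 16, .andn 10 17, .andn 10 18, .andn 10 19, .and 10 20, .and 10 21, .and 10 22, .and 10 22, .andn 11 23,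 .andn 11 24, .andn 11 25, .and 11 26, .and 11 27, .andn 11 28, .andn 4 32, .cnt 7 1 0 2, .cnt 8 2 0 4, .cnt 2 3 0 0, .cnt 6 4 0 4, .cnt 6 5 0 4, .cnt 15 6 0 0, .cnt 15 7 0 0, .cnt 15 8 0 0, .cnt 6 2 0 3, .cnt 15 3 0 3, .cnt 6 4 0 7, .cnt 2 4 0 3, .cnt 0 23 0 0, .cnt 3 24 0 4, .cnt 4 25 0 6, .cnt 12 26 0 8, .cnt 11 27 0 8, .cnt 21 1 0 0, .cnt 10 0 0 0, .cnt 6 31 0 8, .cnt 6 32 0 8, .cnt 6 33 0 6, .cnt 5 34 0 8, .cnt 4 35 0 4, .cnt 23 0 0 1, .cnt 0 3 0 4, .cnt 6 4 0 0, .cnt 4 5 0 0, .cnt 17 0 0 2, .base 0 2248 16 [0, 1, 2], .and 7 2, .andn 8 3, .and 14 4, .and 2 4, .andn 3 5, .and 3 6, .andn 4 7, .and 4 8, .and 4 8, .andn 5 9, .and 5 10, .and 3 11, .cnt 3 6 0 0, .cnt 4 7 0 1, .cnt 3 8 0 0, .cnt 4 9 0 1, .cnt 4 10 0 0, .cnt 0 10 0 0, .base 5 1092 1 [0, 1, 2], .base 8 1183 1 [0, 1], .base 15 802 1 [0, 1, 2], .base 14 1714 1 [0], .base 15 1017 1 [0], .base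 27 21 1 [0], .base 41 489 1 [0], .base 19 305 1 [0, 1], .fin [3955148, 2246209, 4086435, 1837302, 3019721, 3152272, 2219901, 1741009, 1322634, 2032394, 4125122, 1742211, 2557048, 372675, 2131920, 1452872, 2044302, 3924379, 1719774, 1370741, 2483064, 2590784]]

theorem k12 : chkW w12 4 s12 = true := by decide +kernel

theorem b12 : prodB s12 = 3096576 := by decide +kernel

/-- 13: order 5, 3000 -/
def w13 : List ℕ := [1, 0, 2, 0, 1, 2, 0, 1, 0, 2, 1, 2, 0, 1, 0, 2, 1, 0, 2, 0]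

def s13 : List Step := [.self 0 2 0, .self 1 2 1, .self 0 1 1, .cnt 2 0 0 280, .cnt 3 1 0 312, .base 2 89 500 [0, 1, 2, 3], .and 6 3, .andn 7 4, .and 7 5, .and 10 6, .and 3 6, .andn 4 7, .andn 4 8, .andn 4 9, .and 4 10, .and 4 10, .andn 4 11, .andn 4 12, .and 4 13, .and 4 14, .and 4 14, .andn 4 15, .and 3 16, .and 3 17, .andn 4 18, .cnt 4 3 0 2, .cnt 3 4 0 4, .cnt 3 5 0 6, .cnt 3 6 0 0, .cnt 2 1 0 2, .cnt 0 1 0 4, .cnt 0 13 0 2, .base 0 1636 6 [0, 1, 3, 2, 4], .and 12 4, .andn 13 5, .and 1 5, .andn 2 6, .and 2 7, .and 1 7, .cnt 0 1 0 0, .cnt 1 2 0 1, .base 5 1837 1 [0, 1, 2, 3, 4], .base 7 1686 1 [0, 1, 2, 3], .base 11 1218 1 [0, 1, 2, 3], .fin [3270890, 1435558, 771768, 282732, 2998737, 2064029, 2715519, 689410, 488154, 1444773, 1700805, 1683258, 591575, 2651950, 2724157, 1471188, 955413, 3155834, 2858325, 454582, 3383829, 1990985]]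

theorem k13 : chkW w13 5 s13 = true := by decide +kernel

theorem b13 : prodB s13 = 3000 := by decide +kernel

/-- 14: order 5, 600 -/
def w14 : List ℕ := [2, 0, 2, 1, 2, 1, 2, 0]

def s14 : List Step := [.self 0 1 0, .self 0 2 0, .self 1 2 1, .cnt 1 0 0 284, .cnt 2 1 0 324, .cnt 3 2 0 348, .cnt 3 3 0 332, .base 1 480 50 [0, 1, 2, 3, 4], .and 9 4, .andn 9 5, .and 9 6, .and 9 7, .andn 10 8, .and 4 8, .andn 5 9, .andn 5 10, .and 5 11, .and 5 12, .and 5 13, .and 5 13, .andn 4 14, .and 4 15, .andn 4 16, .and 4 17, .and 4 17, .and 0 17, .andn 1 18, .cnt 6 4 0 0, .cnt 0 4 0 2, .cnt 3 14 0 2, .cnt 8 15 0 2, .cnt 1 0 0 0, .base 9 1949 2 [0, 1, 2, 3, 4], .and 11 4, .base 10 1940 3 [0], .and 2 0, .andn 3 1, .cnt 11 0 0 0, .base 2 1296 2 [0, 1, 2, 3, 4], .and 6 4, .andn 7 5, .and 10 5, .base 2 1055 1 [0], .base 3 1072 1 [0, 1, 2, 3], .base 7 2081 1 [0], .fin [135412,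 1995075, 3717185, 480292, 2415751, 4108307, 2341405, 321866, 3789623, 1587326, 2540215, 3343140, 4179168, 114933, 3954432, 1766401, 620539, 3415534, 208635, 566949, 3826176, 1129388]]

theorem k14 : chkW w14 5 s14 = true := by decide +kernel

theorem b14 : prodB s14 = 600 := by decide +kernel

/-- 15: order 6, 3456 -/
def w15 : List ℕ := [1, 0, 2, 0, 1, 2, 1, 0, 1, 2, 0, 1, 0, 2, 1, 0, 1, 2, 1, 0, 2, 0]

def s15 : List Step := [.fixd 0 3 0, .fixd 1 3 1, .fixd 1 2 0, .fixd 2 2 1, .fixd 2 2 0, .fixd 3 2 1, .self 3 1 0, .self 2 1 0, .self 3 1 1, .self 2 2 0, .cnt 0 6 0 8, .cnt 1 7 0 12, .cnt 2 8 0 16, .cnt 3 9 0 24, .cnt 6 10 0 24, .cnt 9 11 0 6, .base 5 2138 72 [0, 1, 2, 3], .and 10 3, .and 10 4, .andn 10 5, .and 10 6, .and 21 7, .andn 22 8, .and 18 9, .andn 19 10, .andn 13 11, .and 8 11, .andn 9 12, .and 9 13, .andn 10 14, .andn 10 15, .andn 10 16, .andn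 9 17, .andn 9 18, .andn 9 19, .and 8 19, .andn 9 20, .and 8 21, .and 8 22, .and 5 23, .and 2 23, .and 2 24, .andn 3 25, .cnt 1 21 0 2, .cnt 1 16 0 5, .cnt 12 19 0 0, .cnt 1 9 0 7, .cnt 6 12 0 4, .cnt 37 16 0 8, .cnt 0 18 0 0, .base 0 2042 3 [0, 1, 2], .and 10 2, .and 8 3, .and 8 3, .andn 9 4, .cnt 12 3 0 0, .cnt 19 0 0 2, .base 0 1411 16 [0, 1, 2], .and 28 2, .andn 29 3, .and 9 4, .and 9 5, .andn 12 6, .and 4 6, .andn 5 7, .and 5 8, .andn 6 9, .and 6 10, .and 6 11, .and 6 12, .and 1 12, .cnt 6 4 0 1, .cnt 4 5 0 0, .cnt 2 6 0 0, .cnt 10 8 0 0, .cnt 11 9 0 1, .cnt 0 6 0 0, .cnt 1 7 0 1, .cnt 6 8 0 0, .cnt 7 9 0 1, .cnt 6 10 0 0, .base 6 382 1 [0, 1, 2, 3], .base 9 1359 1 [0], .base 10 1883 1 [0], .base 11 1252 1 [0], .base 12 49 1 [0], .base 21 616 1 [0, 1], .base 16 5 1 [0, 1], .fin [200349, 2859824, 817810, 2124123, 685069, 879616, 2894154, 1612281, 416884,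 2353771, 398775, 4061535, 2384365, 2523140, 1388514, 1245052, 2843881, 1814320, 3119246, 3187176, 2342292, 3194624]]

theorem k15 : chkW w15 6 s15 = true := by decide +kernel

theorem b15 : prodB s15 = 3456 := by decide +kernel

end Cfsg.Agent.H633.Ore.Co2.C2
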