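import Cfsg.Agent.H633.Ore.Co2Chk

/-!
# Certificates for the centralizers in `Co2` (helper633)
-/

set_option autoImplicit false

namespace Cfsg.Agent.H633.Ore.Co2.C3

/-- 16: order 6, 288 -/
def w16 : List ℕ := [0, 2, 1, 0, 1, 0, 2, 0, 1, 2, 0, 1, 0, 2, 0, 1, 0, 1]

def s16 : List Step := [.self 0 1 0, .self 1 1 1, .self 1 2 0, .self 2 2 1, .self 2 2 0, .self 2 3 0, .self 3 3 1, .self 2 3 1, .cnt 2 4 0 120, .cnt 3 5 0 128, .cnt 4 6 0 176, .cnt 5 7 0 192, .cnt 5 8 0 128, .cnt 9 9 0 104, .cnt 6 10 0 140, .cnt 7 11 0 144, .cnt 6 4 0 0, .cnt 7 5 0 2, .cnt 1 7 0 0, .cnt 2 8 0 12, .base 0 777 12 [0, 1, 2], .and 6 2, .andn 12 3, .and 12 4, .andn 13 5, .andn 13 6, .andn 13 7, .andn 4 7, .and 3 8, .and 3 9, .and 0 9, .andn 14 13, .cnt 0 5 0 4, .cnt 9 6 0 0, .cnt 5 7 0 0, .cnt 4 8 0 3, .cnt 30 2 0 0, .cnt 21 3 0 0, .cnt 5 4 0 0, .cnt 17 5 0 0, .cnt 18 6 0 2,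 .cnt 4 6 0 0, .cnt 4 7 0 0, .cnt 4 8 0 0, .cnt 3 9 0 0, .cnt 9 17 0 1, .base 0 1962 24 [0, 1, 2, 3, 4, 5], .and 11 5, .and 11 6, .and 11 7, .and 16 8, .and 12 9, .and 4 9, .andn 1 10, .and 1 10, .andn 2 11, .and 5 12, .and 0 12, .andn 1 13, .cnt 9 5 0 0, .cnt 10 6 0 1, .cnt 3 7 0 0, .base 7 799 1 [0, 1, 2, 3, 4], .base 12 610 1 [0, 1], .base 22 1739 1 [0, 1], .base 14 2047 1 [0], .base 15 1127 1 [0], .base 16 881 1 [0], .base 21 192 1 [0], .fin [2554051, 2470753, 4110540, 2283899, 495808, 2856717, 2923873, 3266751, 4099373, 2313697, 3633703, 3186269, 3201759, 1935337, 1617068, 16384, 1684678, 3059802, 99203, 324893, 3891288, 1566999]]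

theorem k16 : chkW w16 6 s16 = true := by decide +kernel

theorem b16 : prodB s16 = 288 := by decide +kernel

/-- 17: order 6, 5184 -/
def w17 : List ℕ := [1, 2, 0, 1, 0, 1, 2, 1, 2, 1, 0, 1, 0, 2]

def s17 : List Step := [.fixd 0 3 0, .fixd 1 3 1, .fixd 0 2 0, .fixd 1 2 1, .self 3 1 0, .self 2 1 0, .self 3 1 1, .self 2 2 0, .self 3 2 1, .cnt 3 3 0 76, .cnt 6 3 0 36, .base 0 1507 4 [0], .and 4 0, .andn 5 1, .and 5 2, .andn 6 3, .and 10 4, .andn 11 5, .base 0 1494 108 [0, 1, 2], .and 15 2, .and 10 3, .andn 11 4, .and 11 5, .and 11 6, .and 11 7, .andn 12 8, .and 12 9, .andn 13 10, .and 8 10, .and 8 11, .andn 8 12, .and 8 13, .andn 9 14, .and 9 15, .and 9 16, .andn 9 17, .andn 9 18, .and 9 19, .and 6 19, .and 6 20, .andn 7 21, .and 7 22, .cnt 13 7 0 2, .cnt 13 8 0 4, .cnt 13 9 0 6, .cnt 6 10 0 2, .cnt 6 11 0 4, .cnt 6 12 0 0, .cnt 11 13 0 0, .cnt 11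 14 0 0, .cnt 7 0 0 0, .cnt 8 1 0 1, .cnt 8 2 0 0, .cnt 7 3 0 0, .cnt 7 4 0 1, .cnt 2 6 0 0, .cnt 3 7 0 1, .cnt 15 12 0 0, .cnt 16 13 0 2, .cnt 23 14 0 2, .cnt 1 12 0 2, .cnt 9 3 0 1, .cnt 0 2 0 1, .cnt 0 2 0 1, .base 19 426 2 [0, 1, 2, 3, 4], .and 13 4, .and 17 5, .and 17 6, .and 22 6, .cnt 10 3 0 1, .cnt 11 4 0 3, .cnt 20 3 0 3, .base 0 835 6 [0, 1, 2, 3], .and 8 3, .and 7 4, .and 12 5, .and 10 5, .and 3 5, .andn 4 6, .cnt 1 4 0 0, .base 0 1765 1 [0, 1, 2, 3], .base 6 552 1 [0, 1], .base 11 1940 1 [0, 1], .base 15 883 1 [0], .fin [2306991, 85489, 1413424, 1142367, 1624426, 3225849, 757640, 2881960, 623970, 365834, 1003667, 3120406, 1253532, 440988, 925623, 52719, 2701363, 270911, 2847336, 100854, 1382269, 1843459]]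

theorem k17 : chkW w17 6 s17 = true := by decide +kernel

theorem b17 : prodB s17 = 5184 := by decide +kernel

/-- 18: order 6, 576 -/
def w18 : List ℕ := [2, 0, 1, 0, 1, 2, 1, 0, 1, 0]

def s18 : List Step := [.self 0 1 0, .self 0 2 0, .self 1 2 1, .cnt 1 0 0 64, .cnt 2 1 0 96, .cnt 3 2 0 112, .cnt 4 3 0 120, .cnt 5 4 0 128, .cnt 2 4 0 0, .cnt 3 5 0 3, .cnt 2 6 0 2, .cnt 2 1 0 32, .cnt 3 2 0 48, .cnt 6 3 0 36, .cnt 11 4 0 48, .cnt 10 0 0 16, .cnt 2 1 0 24, .base 13 1707 3 [0, 1, 2], .and 10 2, .andn 11 3, .and 8 4, .andn 9 5, .andn 3 5, .and 1 6, .cnt 11 3 0 0, .cnt 16 4 0 8, .cnt 16 5 0 0, .cnt 20 6 0 8, .cnt 2 4 0 8, .cnt 1 5 0 8, .cnt 2 6 0 16, .base 4 1712 4 [0, 1], .and 5 1, .and 5 2, .andn 5 3, .and 14 4, .and 18 5, .and 1 5, .and 1 6, .cnt 27 6 0 2, .base 5 2120 12 [0, 1, 2, 3], .and 22 3, .and 13 4, .and 13 5, .andn 14 6, .and 9 7, .and 12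 8, .and 12 9, .and 4 9, .and 2 10, .and 2 11, .and 1 11, .and 1 12, .cnt 1 8 0 1, .cnt 1 9 0 1, .base 12 1742 2 [0, 1, 2], .and 5 2, .andn 6 3, .and 6 4, .cnt 13 2 0 1, .cnt 14 3 0 2, .cnt 18 4 0 2, .cnt 23 3 0 0, .base 5 1897 2 [0, 1, 2, 3], .and 5 3, .and 8 4, .and 8 5, .and 11 5, .base 3 2286 1 [0, 1, 2], .base 4 1802 1 [0], .base 8 1733 1 [0], .base 9 707 1 [0], .fin [3942307, 4104378, 1530161, 1217336, 2810633, 1267957, 946488, 2527659, 2417558, 2796246, 2839372, 541982, 4095288, 3092741, 1412802, 1574912, 1241901, 1579182, 117418, 2557835, 16044, 2763320]]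

theorem k18 : chkW w18 6 s18 = true := by decide +kernel

theorem b18 : prodB s18 = 576 := by decide +kernel

/-- 19: order 6, 4320 -/
def w19 : List ℕ := [1, 0, 1, 0, 2, 1, 0, 1, 0, 2, 1, 2, 0, 1, 0, 1, 2, 0, 1, 0]

def s19 : List Step := [.fixd 0 3 0, .fixd 1 3 1, .fixd 1 2 0, .fixd 2 2 1, .fixd 2 2 1, .self 2 2 0, .self 3 2 1, .self 1 1 0, .cnt 0 3 0 4, .cnt 2 4 0 7, .base 1 26 180 [0, 1, 2, 3], .and 6 3, .andn 7 4, .andn 7 5, .andn 14 6, .and 3 6, .andn 3 7, .and 3 8, .and 3 9, .andn 4 10, .and 4 10, .andn 5 11, .andn 5 12, .and 5 13, .and 2 13, .and 2 14, .and 2 15, .cnt 2 8 0 4, .cnt 3 9 0 8, .cnt 2 3 0 8, .base 10 2082 2 [0], .and 11 0, .andn 12 1, .and 4 2, .base 0 1062 12 [0, 1, 2, 3, 4, 5], .and 9 5, .andn 10 6, .andn 10 7, .and 17 8, .and 17 9, .and 3 9, .andn 1 10, .and 3 10, .cnt 0 5 0 0, .cnt 3 2 0 0, .cnt 4 3 0 1, .base 10 17 1 [0,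 1, 2], .base 5 1387 1 [0, 1, 2, 3], .base 9 946 1 [0, 1], .base 14 1239 1 [0, 1], .fin [1220207, 978948, 179730, 1395860, 2840336, 2791202, 181501, 4016214, 4047935, 3084324, 2491757, 1395148, 3080723, 1904495, 3384053, 846257, 3368491, 3037118, 3248521, 2328387, 4107776, 2856070]]

theorem k19 : chkW w19 6 s19 = true := by decide +kernel

theorem b19 : prodB s19 = 4320 := by decide +kernel

/-- 20: order 6, 5760 -/
def w20 : List ℕ := [0, 2, 1, 2, 1, 2, 1, 0, 2, 0, 2, 2, 1, 2, 0, 2, 0, 2, 0, 1, 2, 1]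

def s20 : List Step := [.fixd 0 3 0, .fixd 1 3 1, .fixd 0 2 0, .self 2 1 0, .self 1 1 0, .self 2 1 1, .self 2 2 0, .self 3 2 1, .base 0 2244 960 [0, 1, 2, 3, 4], .and 7 4, .andn 8 5, .and 8 6, .and 12 7, .andn 13 8, .andn 13 9, .and 5 9, .andn 6 10, .and 6 11, .and 6 12, .andn 7 13, .and 7 14, .andn 8 15, .and 8 16, .andn 9 17, .and 9 18, .and 9 18, .andn 10 19, .andn 10 20, .and 10 21, .and 10 22, .andn 10 23, .and 10 24, .andn 10 25, .andn 10 26, .andn 9 27, .and 9 27, .andn 9 28, .andn 9 29, .andn 9 30, .and 9 31, .andn 10 32, .and 10 33, .and 6 33, .andn 7 34, .andn 7 35, .andn 7 36, .and 6 37, .andn 7 38, .and 7 39, .and 7 40, .cnt 3 26 0 0, .cnt 3 27 0 1, .cnt 3 28 0 0, .cnt 3 29 0 0, .cnt 19 30 0 1, .cnt 3 21 0 1, .cnt 2 22 0 0, .cnt 1 24 0 1, .cnt 15 19 0 0, .cnt 16 20 0 2, .cnt 16 21 0 0, .cnt 2 15 0 0, .cnt 2 16 0 2, .cnt 12 18 0 2, .cnt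 0 32 0 1, .cnt 2 8 0 1, .cnt 1 9 0 0, .cnt 5 14 0 0, .base 22 1092 2 [0, 1, 2, 3, 4], .and 13 4, .and 8 5, .and 18 6, .cnt 11 0 0 1, .cnt 12 1 0 3, .cnt 24 2 0 3, .base 0 1155 3 [0, 1, 2], .and 16 2, .and 7 3, .andn 7 4, .and 11 5, .and 3 5, .and 3 6, .andn 15 6, .and 3 7, .cnt 1 5 0 0, .base 4 337 1 [0, 1, 2, 3], .base 8 1074 1 [0, 1], .base 8 829 1 [0], .base 11 76 1 [0, 1], .fin [2995601, 2533530, 2025841, 3812840, 1891908, 1053532, 852736, 1447445, 428962, 2892509, 2911736, 2738504, 1418616, 595294, 851585, 2470660, 713976, 3297257, 680774, 3090978, 1027132, 1632799]]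

theorem k20 : chkW w20 6 s20 = true := by decide +kernel

theorem b20 : prodB s20 = 5760 := by decide +kernel

end Cfsg.Agent.H633.Ore.Co2.C3
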