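import Cfsg.Agent.H633.Ore.Co2Chk

/-!
# Certificates for the centralizers in `Co2` (helper633)
-/

set_option autoImplicit false

namespace Cfsg.Agent.H633.Ore.Co2.C5

/-- 26: order 8, 256 -/
def w26 : List ℕ := [1, 0, 1, 0, 2, 1, 2, 0, 1, 0]

def s26 : List Step := [.self 0 1 0, .self 0 2 0, .self 1 2 1, .self 1 3 0, .self 2 3 1, .self 2 3 0, .self 3 3 1, .cnt 3 0 0 64, .cnt 4 1 0 80, .cnt 5 2 0 96, .cnt 6 3 0 112, .cnt 7 4 0 128, .cnt 7 5 0 72, .cnt 8 6 0 88, .cnt 6 2 0 0, .cnt 7 3 0 4, .cnt 7 4 0 0, .cnt 8 5 0 2, .cnt 8 6 0 4, .cnt 13 7 0 4, .cnt 5 9 0 8, .cnt 5 10 0 8, .cnt 6 11 0 12, .cnt 7 12 0 16, .cnt 0 5 0 16, .cnt 5 12 0 96, .base 0 908 32 [0, 1, 2, 3, 4, 5, 6], .and 12 6, .and 12 7, .and 11 8, .and 20 9, .andn 21 10, .and 21 11, .and 26 12, .and 34 13, .and 7 13, .and 7 14, .andn 6 15, .andn 6 16, .and 6 17, .andn 6 18, .and 6 19, .andn 7 20, .and 7 20, .and 7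 21, .and 5 22, .andn 4 23, .and 4 24, .and 3 24, .and 3 25, .andn 9 26, .and 4 27, .andn 4 28, .and 3 28, .cnt 40 16 0 0, .cnt 2 17 0 0, .cnt 4 17 0 0, .cnt 2 1 0 0, .base 7 660 8 [0, 1, 2, 4, 6, 3, 5, 7], .and 23 7, .and 19 8, .andn 39 9, .and 16 10, .andn 14 11, .and 14 11, .and 5 12, .and 3 13, .and 2 13, .andn 3 14, .and 3 15, .andn 4 16, .and 10 17, .and 0 17, .and 6 17, .cnt 0 12 0 0, .cnt 5 11 0 0, .base 8 790 1 [0, 1], .base 10 1658 1 [0], .base 5 1389 1 [0], .base 12 2278 1 [0], .base 12 1981 1 [0], .base 12 2227 1 [0], .fin [4160592, 3152445, 2580692, 1472613, 3145995, 4024624, 1774620, 3382355, 2916418, 500303, 2020639, 573866, 3085826, 255355, 3422655, 1600679, 3009226, 1172021, 986542, 1817269, 3620330, 3574686]]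

theorem k26 : chkW w26 8 s26 = true := by decide +kernel

theorem b26 : prodB s26 = 256 := by decide +kernel

/-- 27: order 8, 512 -/
def w27 : List ℕ := [1, 2, 0, 2, 1, 0, 1, 2, 1, 2, 1, 0, 1, 2, 0, 2]

def s27 : List Step := [.self 0 1 0, .self 0 3 0, .self 1 3 1, .self 1 2 0, .self 2 2 1, .cnt 1 0 0 80, .cnt 0 0 0 96, .cnt 1 1 0 112, .cnt 0 5 0 432, .cnt 1 6 0 528, .cnt 5 7 0 432, .cnt 6 8 0 528, .base 0 2172 64 [0, 1, 2, 3], .and 10 3, .and 9 4, .andn 10 5, .and 10 6, .and 10 7, .andn 11 8, .andn 11 9, .and 21 10, .and 7 10, .andn 7 11, .andn 7 12, .and 7 13, .and 7 14, .and 7 15, .and 7 16, .andn 8 17, .and 8 18, .and 8 18, .andn 8 19, .andn 7 20, .andn 7 21, .andn 7 22, .and 7 23, .and 7 24, .and 7 25, .andn 7 25, .andn 5 26, .and 4 27, .andn 4 28, .and 4 29, .andn 1 34, .cnt 4 20 0 2, .cnt 1 21 0 0, .cnt 3 22 0 0, .cnt 4 23 0 1, .cnt 0 2 0 0, .cnt 0 17 0 1, .cnt 11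 17 0 0, .cnt 1 16 0 0, .base 28 863 2 [0, 1, 2, 3, 4, 5], .and 7 5, .and 13 5, .andn 14 6, .cnt 11 2 0 0, .base 22 2128 2 [0, 1, 2], .and 22 2, .and 7 3, .andn 8 4, .and 8 5, .cnt 8 0 0 0, .base 4 641 2 [0, 1, 3, 2], .and 5 3, .and 8 3, .and 10 3, .base 2 1651 1 [0, 1], .base 3 1843 1 [0, 1], .base 7 50 1 [0], .fin [2734488, 2489289, 3441956, 684440, 1928038, 3399973, 895538, 314883, 2969231, 887400, 2755052, 3470614, 2526801, 2976399, 2067386, 3458737, 736575, 2597886, 862836, 3818873, 3094666, 2143085]]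

theorem k27 : chkW w27 8 s27 = true := by decide +kernel

theorem b27 : prodB s27 = 512 := by decide +kernel

/-- 28: order 9, 54 -/
def w28 : List ℕ := [0, 1, 1, 2, 0, 2, 1, 0, 2, 0, 2, 1]

def s28 : List Step := [.self 0 1 0, .self 0 3 0, .self 1 3 1, .self 1 2 1, .self 1 2 0, .self 2 2 1, .self 2 4 0, .self 2 4 0, .self 3 4 1, .self 3 4 1, .cnt 1 2 0 21, .cnt 0 1 0 15, .cnt 5 0 0 1, .cnt 6 1 0 7, .base 2 1324 9 [0, 1, 4, 2, 3, 5, 6, 7, 8], .andn 11 8, .andn 11 9, .and 1 9, .and 1 9, .base 1 1513 3 [0, 3, 1, 2, 4, 5, 6], .and 8 6, .andn 0 6, .base 0 1580 2 [0, 1, 2, 3, 4, 5], .fin [693602, 3198503, 2366703, 864675, 1933369, 656118, 2365248, 2133024, 1392493, 3856457, 3396864, 3429995, 3059030, 2373353, 3971991, 2975885, 740581, 3806527, 4192690, 1959136, 3874687, 1521515]]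

theorem k28 : chkW w28 9 s28 = true := by decide +kernel

theorem b28 : prodB s28 = 54 := by decide +kernel

/-- 29: order 10, 40 -/
def w29 : List ℕ := [1, 0, 2, 0, 1, 2, 0, 2, 1, 2, 0, 2, 1, 0, 2, 0]

def s29 : List Step := [.self 0 1 0, .self 0 2 0, .self 0 3 0, .self 1 3 1, .self 1 4 0, .self 1 4 0, .self 2 4 1, .self 2 5 0, .self 2 5 1, .self 2 5 0, .cnt 2 0 0 16, .cnt 3 1 0 20, .cnt 4 2 0 24, .cnt 5 3 0 40, .cnt 5 4 0 28, .cnt 2 1 0 1, .cnt 4 5 0 0, .base 2 1589 40 [0, 1, 2, 3, 4, 5, 6, 7, 8, 9], .and 17 9, .and 12 10, .and 14 11, .and 17 12, .and 3 12, .and 2 13, .and 1 13, .andn 2 14, .and 2 15, .and 2 15, .and 1 16, .and 1 16, .and 4 17, .andn 0 17, .cnt 12 10 0 0, .base 3 1539 1 [0, 1, 2, 3, 4, 5, 6, 7, 8], .base 11 2006 1 [0], .base 12 1827 1 [0], .base 18 2145 1 [0], .fin [1880481, 527274, 2832495, 2772624, 3972208, 2194422, 3060856, 1221154, 4134398, 3098168,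 3099816, 694426, 3451310, 2104684, 3630359, 2675489, 934133, 1924804, 1264873, 19056, 1200642, 3841047]]

theorem k29 : chkW w29 10 s29 = true := by decide +kernel

theorem b29 : prodB s29 = 40 := by decide +kernel

/-- 30: order 10, 60 -/
def w30 : List ℕ := [0, 1, 1, 2, 0, 1, 2, 1, 0, 2, 1, 0, 2, 1]

def s30 : List Step := [.self 0 4 0, .self 0 1 0, .self 0 2 0, .self 1 2 1, .self 1 3 0, .self 2 3 1, .self 2 3 0, .self 3 3 1, .cnt 3 1 0 8, .cnt 4 2 0 20, .cnt 5 3 0 24, .cnt 6 4 0 28, .cnt 7 5 0 32, .cnt 8 6 0 40, .cnt 6 7 0 20, .cnt 4 1 0 3, .cnt 2 2 0 1, .cnt 11 3 0 2, .cnt 2 8 0 0, .cnt 12 9 0 6, .cnt 8 0 0 4, .cnt 8 6 0 14, .base 5 593 3 [0], .and 14 0, .andn 15 1, .andn 5 2, .and 9 3, .andn 11 5, .cnt 7 4 0 0, .cnt 11 0 0 0, .cnt 12 1 0 2, .cnt 4 2 0 3, .base 8 1001 2 [0, 1], .and 10 1, .and 10 2, .and 5 3, .base 10 1941 2 [0], .and 4 0, .andn 5 1, .and 5 2, .and 5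 3, .cnt 13 1 0 3, .base 37 539 5 [0, 1, 2, 3], .and 6 3, .andn 7 4, .and 1 4, .and 0 4, .and 0 4, .cnt 25 3 0 0, .cnt 11 4 0 0, .base 16 526 1 [0], .base 17 2211 1 [0], .base 5 424 1 [0, 1, 2, 3], .base 9 1326 1 [0, 1, 2, 3], .base 16 1747 1 [0, 1, 2, 3], .fin [540656, 1841819, 328560, 2408452, 2962728, 1136821, 2159412, 2329061, 1659132, 3357093, 4099477, 562799, 1346010, 2571960, 608164, 1851744, 2265089, 2816929, 3936327, 3352898, 3773650, 3963065]]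

theorem k30 : chkW w30 10 s30 = true := by decide +kernel

theorem b30 : prodB s30 = 60 := by decide +kernel

end Cfsg.Agent.H633.Ore.Co2.C5
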