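import Cfsg.Agent.H633.Ore.Co2Chk

/-!
# Certificates for the centralizers in `Co2` (helper633)
-/

set_option autoImplicit false

namespace Cfsg.Agent.H633.Ore.Co2.C6

/-- 31: order 10, 120 -/
def w31 : List ℕ := [0, 1, 1, 2, 0, 1, 0, 1, 2, 1, 0, 2, 1, 0, 1, 0, 2, 1]

def s31 : List Step := [.self 0 1 0, .self 0 2 0, .self 1 2 1, .self 0 3 0, .cnt 0 2 0 168, .cnt 3 0 0 76, .cnt 4 1 0 92, .base 0 1885 120 [0, 1, 2, 3, 4, 5, 6, 7, 8], .and 11 8, .andn 12 9, .andn 12 10, .and 2 10, .and 2 11, .and 2 12, .and 2 12, .andn 2 13, .and 2 14, .and 2 14, .and 2 15, .andn 2 16, .and 2 16, .and 0 16, .and 0 16, .and 0 16, .and 0 16, .andn 1 17, .cnt 1 7 0 0, .cnt 1 8 0 0, .cnt 1 8 0 0, .base 0 321 1 [0, 1, 2, 3, 4, 5, 6, 7, 8], .base 11 2073 1 [0, 1, 2, 3], .fin [367954, 4080547, 487782, 3488329, 3263854, 1516963, 136304, 1605533, 3718671, 719509, 2599284, 93879, 1743064, 1729552, 1890296,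 3085870, 3712170, 2335317, 4111956, 3242376, 1745119, 1902995]]

theorem k31 : chkW w31 10 s31 = true := by decide +kernel

theorem b31 : prodB s31 = 120 := by decide +kernel

/-- 32: order 11, 11 -/
def w32 : List ℕ := [0, 1, 2, 0, 2, 1, 2, 1, 0, 2, 1, 2, 0, 2]

def s32 : List Step := [.self 0 1 0, .self 0 5 0, .self 0 3 0, .self 0 4 0, .self 0 2 0, .self 1 2 1, .cnt 1 0 0 5, .base 1 2034 11 [0, 1, 3, 2, 4, 5, 6, 7, 8, 9, 10], .and 12 10, .and 0 10, .and 0 10, .base 0 309 1 [0, 1, 2, 3, 4, 5, 6, 7, 8, 9, 10], .fin [3024285, 2630079, 172335, 475548, 3693034, 2475185, 2418309, 2591900, 1099, 1032932, 2977171, 2562579, 1146725, 745131, 6796, 1547757, 1115665, 1370867, 2129919, 3254349, 2144101, 2560644]]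

theorem k32 : chkW w32 11 s32 = true := by decide +kernel

theorem b32 : prodB s32 = 11 := by decide +kernel

/-- 33: order 12, 288 -/
def w33 : List ℕ := [1, 0, 2, 0, 1, 0, 1, 2, 0, 2, 0, 1, 0, 2, 0, 2, 1, 0, 1, 0, 2, 0]

def s33 : List Step := [.fixd 0 6 0, .fixd 1 6 1, .fixd 1 4 0, .fixd 1 4 0, .fixd 0 3 1, .self 2 3 0, .self 0 2 0, .self 2 2 0, .self 3 2 1, .self 2 5 0, .self 3 5 1, .self 1 4 0, .self 2 4 1, .self 2 4 0, .self 3 4 1, .cnt 1 7 0 0, .cnt 4 7 0 12, .cnt 5 8 0 24, .cnt 2 0 0 12, .cnt 3 1 0 20, .base 12 1457 3 [0, 1, 2], .and 11 2, .andn 12 3, .and 11 4, .and 1 4, .cnt 11 3 0 8, .cnt 10 4 0 8, .cnt 10 5 0 8, .cnt 1 3 0 8, .cnt 1 4 0 8, .base 1 57 4 [0, 1, 3, 2], .and 10 3, .and 12 4, .and 1 4, .and 8 5, .and 2 5, .cnt 1 2 0 0, .cnt 2 3 0 4, .cnt 16 1 0 1, .base 5 297 4 [0, 2, 1], .and 7 2, .and 5 2, .cnt 0 1 0 1, .base 8 221 3 [0, 1], .and 3 1, .andn 4 2,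 .base 0 1131 2 [0, 1, 2, 3, 4, 5], .base 8 560 1 [0, 1, 2, 3], .fin [3664541, 4191238, 2732104, 3375920, 266532, 2299918, 3470240, 628645, 2137694, 2106790, 3867488, 765522, 424747, 716944, 1814880, 691476, 505511, 58096, 2359365, 632833, 1666039, 2931262]]

theorem k33 : chkW w33 12 s33 = true := by decide +kernel

theorem b33 : prodB s33 = 288 := by decide +kernel

/-- 34: order 12, 864 -/
def w34 : List ℕ := [1, 0, 2, 0, 1, 2, 0, 2, 0, 1, 2, 0, 1, 0, 2, 1, 0, 2, 0, 2, 1, 0, 2, 0]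

def s34 : List Step := [.fixd 0 6 0, .fixd 1 6 1, .fixd 0 4 0, .fixd 1 4 1, .fixd 1 3 0, .fixd 1 3 0, .self 5 1 0, .self 2 1 0, .self 1 4 0, .self 2 4 1, .self 1 2 0, .self 2 2 1, .cnt 1 2 0 96, .cnt 5 3 0 76, .cnt 6 4 0 92, .base 9 249 4 [0, 1], .and 6 1, .and 9 2, .andn 10 3, .and 7 4, .and 7 5, .and 4 5, .and 3 6, .base 2 1595 18 [0, 1, 2, 3, 4], .and 18 4, .and 8 5, .andn 13 6, .and 9 7, .and 13 8, .andn 13 9, .and 5 9, .and 5 10, .and 5 11, .andn 5 12, .and 5 13, .andn 6 14, .andn 6 15, .and 6 15, .and 6 16, .andn 6 17, .andn 6 18, .and 3 18, .and 3 19, .andn 3 20, .andn 7 25, .cnt 2 4 0 0, .cnt 11 5 0 0, .cnt 11 6 0 2, .cnt 6 3 0 1, .cnt 3 4 0 1, .cnt 1 3 0 1, .base 7 288 2 [0, 1], .and 4 1, .cnt 4 0 0 1, .base 8 2035 3 [0, 1, 2, 3], .and 5 3, .andn 6 4, .and 8 5, .base 1 385 2 [0, 1, 2, 3, 4, 5], .and 7 5, .base 10 1092 1 [0, 1], .base 3 156 1 [0], .fin [614753, 2121928,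 503645, 3319598, 1343704, 3053236, 2372815, 2647987, 3501871, 3681457, 830793, 1216384, 1846497, 1839110, 189141, 3864872, 3972103, 402337, 3260287, 38529, 2263095, 299647]]

theorem k34 : chkW w34 12 s34 = true := by decide +kernel

theorem b34 : prodB s34 = 864 := by decide +kernel

/-- 35: order 12, 48 -/
def w35 : List ℕ := [1, 0, 1, 2, 0, 1, 2, 1, 2, 1, 0, 2, 1, 0]

def s35 : List Step := [.self 0 1 0, .self 0 2 0, .self 1 2 1, .self 1 3 0, .self 2 3 1, .self 2 3 0, .self 2 4 0, .self 3 4 1, .self 2 4 1, .cnt 2 1 0 16, .cnt 3 2 0 24, .cnt 4 3 0 40, .cnt 5 4 0 48, .cnt 8 5 0 36, .cnt 5 6 0 16, .cnt 4 5 0 3, .cnt 3 6 0 9, .cnt 1 5 0 7, .cnt 1 6 0 0, .cnt 2 7 0 6, .cnt 1 0 0 4, .cnt 11 6 0 4, .cnt 12 7 0 12, .base 9 1625 48 [0, 1, 2, 3, 4, 5, 6, 7, 8, 9, 10, 11], .and 14 11, .and 14 12, .and 20 13, .and 18 14, .and 3 14, .and 3 15, .and 3 16, .and 2 16, .and 1 17, .and 0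 17, .andn 1 18, .and 1 18, .and 1 19, .and 1 19, .and 0 19, .and 0 19, .and 0 19, .cnt 0 13 0 0, .base 10 2039 1 [0, 1, 2], .base 16 317 1 [0], .base 6 1286 1 [0, 1, 2, 3, 4], .base 17 915 1 [0], .fin [3699467, 327402, 370159, 554484, 3505736, 1749056, 4169250, 2444030, 3599086, 578147, 766563, 3599214, 3095459, 3059151, 1976693, 2840834, 2738308, 3161010, 1123968, 56590, 2806687, 2400412]]

theorem k35 : chkW w35 12 s35 = true := by decide +kernel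

theorem b35 : prodB s35 = 48 := by decide +kernel

end Cfsg.Agent.H633.Ore.Co2.C6
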