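import Cfsg.Agent.H633.Ore.Co2Chk

/-!
# Certificates for the centralizers in `Co2` (helper633)
-/

set_option autoImplicit false

namespace Cfsg.Agent.H633.Ore.Co2.C7

/-- 36: order 12, 48 -/
def w36 : List ℕ := [0, 2, 1, 0, 1, 2, 0, 2, 1, 2, 0, 1, 2, 0, 2, 1, 0, 1]

def s36 : List Step := [.self 0 5 0, .self 0 2 0, .self 1 2 1, .self 1 1 0, .self 2 1 1, .self 2 1 0, .self 3 1 1, .self 3 4 0, .self 0 3 0, .self 1 3 1, .self 5 3 0, .self 4 3 1, .cnt 1 6 0 30, .cnt 4 1 0 0, .cnt 5 2 0 24, .cnt 5 3 0 26, .cnt 6 4 0 34, .base 4 425 48 [0, 1, 2, 3, 4, 5, 6, 7, 8, 9], .and 13 9, .and 13 10, .andn 13 11, .and 2 11, .and 2 12, .andn 2 13, .and 2 13, .and 2 14, .and 2 15, .and 2 15, .and 2 16, .and 1 16, .and 1 17, .andn 2 18, .and 1 18, .and 0 18, .and 0 18, .and 0 18, .andn 4 18, .cnt 7 10 0 0, .base 34 1818 1 [0], .base 2 487 1 [0, 1, 2, 3, 4, 5], .base 11 915 1 [0, 1, 2, 3], .base 15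 1281 1 [0], .fin [1191231, 3096779, 1802474, 1615877, 268264, 296, 1720427, 2751375, 2942725, 1442, 1612909, 2350489, 529139, 3683575, 781965, 511313, 3827646, 1371220, 2440611, 1805483, 3817820, 2359592]]

theorem k36 : chkW w36 12 s36 = true := by decide +kernel

theorem b36 : prodB s36 = 48 := by decide +kernel

/-- 37: order 12, 288 -/
def w37 : List ℕ := [1, 0, 2, 1, 2, 1, 0, 2, 1, 2, 0, 1, 2, 1, 2, 0]

def s37 : List Step := [.self 0 1 0, .self 0 2 0, .self 0 3 0, .self 1 3 1, .self 1 4 0, .self 2 4 1, .cnt 1 0 0 0, .cnt 2 1 0 56, .cnt 3 2 0 64, .cnt 4 3 0 96, .cnt 6 4 0 52, .cnt 7 5 0 64, .cnt 3 2 0 1, .cnt 5 1 0 80, .base 2 2142 144 [0, 1, 2, 3, 4, 5, 6, 7, 8], .andn 17 8, .and 11 9, .andn 12 10, .and 14 11, .and 22 12, .and 18 13, .and 4 13, .and 4 14, .and 4 15, .and 4 16, .and 4 17, .and 4 17, .andn 5 18, .and 5 19, .and 4 20, .andn 5 21, .and 5 22, .and 5 22, .andn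 6 23, .and 6 24, .and 6 25, .and 6 26, .andn 6 27, .and 6 28, .and 6 28, .and 3 29, .and 2 30, .and 2 30, .and 2 30, .andn 2 31, .andn 0 31, .cnt 3 12 0 0, .cnt 1 13 0 0, .cnt 24 0 0 0, .cnt 2 14 0 0, .cnt 0 14 0 0, .cnt 0 13 0 0, .base 16 950 2 [0, 1, 2, 3, 4, 5, 6], .and 16 6, .base 45 197 1 [0], .base 11 1775 1 [0, 1], .base 17 639 1 [0], .base 7 454 1 [0, 1], .fin [148197, 1872671, 2806495, 3229485, 593975, 2069008, 844587, 4003112, 449696, 3006936, 2129984, 1706329, 2365468, 3039584, 942085, 955509, 2061992, 3947326, 527126, 2918321, 1394698, 4064205]]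

theorem k37 : chkW w37 12 s37 = true := by decide +kernel

theorem b37 : prodB s37 = 288 := by decide +kernel

/-- 38: order 12, 288 -/
def w38 : List ℕ := [1, 0, 1, 0, 0, 2, 1, 2, 0, 1, 0, 1, 2, 1, 2, 0]

def s38 : List Step := [.fixd 0 6 0, .fixd 1 6 1, .fixd 1 4 0, .fixd 2 4 1, .fixd 2 4 0, .fixd 0 3 1, .self 3 5 0, .self 0 4 0, .self 1 4 1, .self 1 2 0, .self 2 2 1, .self 2 2 0, .self 3 2 1, .cnt 7 9 0 8, .cnt 8 10 0 24, .cnt 2 3 0 48, .cnt 3 4 0 64, .base 2 1655 9 [0, 1, 2], .and 10 2, .and 6 3, .andn 7 4, .and 7 5, .andn 8 6, .and 4 6, .andn 4 7, .and 4 8, .and 4 9, .and 4 10, .cnt 21 3 0 8, .cnt 5 4 0 8, .cnt 3 5 0 8, .cnt 20 6 0 0, .cnt 3 0 0 2, .cnt 0 7 0 8, .cnt 2 8 0 16, .base 0 642 2 [0, 2, 1], .and 5 2, .andn 6 3, .and 11 4, .and 14 4, .base 12 1556 8 [0, 1, 2, 4, 3, 5, 6], .and 11 6, .and 11 7, .and 11 8, .and 11 9, .and 3 9, .and 3 10, .and 26 11, .and 3 12, .and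 5 12, .and 2 13, .and 1 13, .cnt 1 3 0 2, .base 0 40 2 [0, 2, 1], .and 11 2, .andn 12 3, .and 12 4, .and 8 4, .base 3 1763 1 [0, 1], .base 5 27 1 [0], .base 6 590 1 [0], .base 7 1975 1 [0, 1], .fin [258148, 3241128, 3200069, 3106876, 729886, 3774611, 3112512, 1395005, 1076721, 21812, 188105, 1254884, 3478159, 1748264, 1346306, 2547527, 3314981, 180661, 211694, 3084626, 2504525, 3422903]]

theorem k38 : chkW w38 12 s38 = true := by decide +kernel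

theorem b38 : prodB s38 = 288 := by decide +kernel

/-- 39: order 12, 96 -/
def w39 : List ℕ := [0, 1, 2, 1, 1, 0, 2, 1, 2, 1, 0, 2, 0, 1]

def s39 : List Step := [.fixd 0 6 0, .fixd 1 6 1, .fixd 1 4 0, .fixd 2 4 1, .fixd 2 4 1, .fixd 0 3 0, .self 3 1 0, .self 3 1 0, .self 1 2 0, .self 2 2 1, .self 1 3 0, .self 1 3 0, .self 2 3 1, .self 2 4 0, .self 2 4 1, .self 2 4 1, .self 2 5 0, .self 3 5 1, .self 3 5 0, .cnt 2 13 0 0, .cnt 3 14 0 2, .cnt 2 15 0 4, .cnt 14 16 0 0, .cnt 15 17 0 2, .cnt 4 0 0 4, .cnt 3 1 0 4, .cnt 3 2 0 0, .cnt 4 3 0 4, .cnt 2 12 0 24, .base 4 1308 24 [0, 1, 2, 3, 4, 5, 6], .and 16 6, .and 20 7, .and 10 8, .andn 11 9, .and 14 10, .andn 14 11, .and 19 12, .and 6 12, .and 6 13, .andn 6 14, .and 6 15, .and 5 16, .and 5 17, .and 4 17, .andn 3 18, .and 1 18, .and 6 19, .cnt 0 12 0 0, .cnt 3 13 0 0, .cnt 1 6 0 0, .cnt 1 7 0 0, .cnt 13 1 0 0, .cnt 6 1 0 0, .base 18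 1805 2 [0, 1, 2], .and 4 2, .base 16 2050 2 [0], .and 8 0, .andn 9 1, .and 4 2, .andn 5 3, .base 3 117 1 [0, 1, 2], .base 6 389 1 [0], .base 7 127 1 [0, 1, 2, 3, 4], .base 12 1630 1 [0, 1], .fin [2950528, 2300337, 1388412, 1089299, 308187, 3762248, 251503, 3238206, 174659, 1272360, 1288134, 3603829, 3093853, 3262059, 3093841, 801558, 2981340, 1850092, 365315, 2500720, 3754372, 3865738]]

theorem k39 : chkW w39 12 s39 = true := by decide +kernel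

theorem b39 : prodB s39 = 96 := by decide +kernel

/-- 40: order 12, 96 -/
def w40 : List ℕ := [1, 0, 1, 2, 1, 2, 1, 0]

def s40 : List Step := [.fixd 0 6 0, .fixd 1 6 1, .fixd 0 4 0, .fixd 0 3 0, .self 3 5 0, .self 1 5 0, .self 1 4 0, .self 2 4 1, .self 2 4 0, .self 2 1 0, .self 3 1 1, .self 1 2 0, .self 2 2 1, .self 2 2 0, .self 6 2 0, .self 6 3 1, .cnt 3 1 0 28, .cnt 1 2 0 32, .cnt 6 0 0 16, .base 5 1560 96 [0, 1, 2, 3, 4, 5, 6, 7, 8], .and 10 8, .andn 11 9, .and 14 10, .and 2 10, .andn 2 11, .and 2 12, .and 2 12, .and 1 13, .and 1 13, .and 1 14, .andn 2 15, .and 2 15, .and 2 16, .and 2 17, .and 2 17, .and 2 18, .andn 2 19, .and 1 19, .cnt 0 13 0 0, .base 4 1951 1 [0, 1, 2, 3], .base 5 236 1 [0, 1, 2, 3, 4, 5, 6, 7], .base 16 381 1 [0], .fin [3994260, 343548, 2870893, 1347645, 292934, 3270476, 154180, 2537128, 1941968, 2304147, 1313045, 2642748, 2609869, 2852678, 468951, 454994,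 1712784, 96541, 2181668, 1430118, 1578901, 3330166]]

theorem k40 : chkW w40 12 s40 = true := by decide +kernel

theorem b40 : prodB s40 = 96 := by decide +kernel

end Cfsg.Agent.H633.Ore.Co2.C7
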