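import Cfsg.Agent.H633.Ore.Co2Chk

/-!
# Certificates for the centralizers in `Co2` (helper633)
-/

set_option autoImplicit false

namespace Cfsg.Agent.H633.Ore.Co2.C10

/-- 51: order 24, 24 -/
def w51 : List ℕ := [0, 2, 1, 0, 1, 2, 0, 1, 0, 2, 0, 0, 1, 0, 2, 1, 0, 1]

def s51 : List Step := [.self 0 1 0, .self 0 2 0, .self 1 2 1, .self 1 3 0, .self 2 3 1, .self 2 3 0, .self 2 4 0, .self 2 4 0, .self 2 4 0, .self 2 5 0, .self 1 5 0, .self 0 6 0, .self 1 6 1, .cnt 3 5 0 0, .cnt 4 6 0 4, .cnt 2 7 0 0, .cnt 1 0 0 1, .base 5 617 24 [0, 1, 2, 3, 4, 5, 6, 7, 8, 9, 10, 11, 12, 13, 14, 15, 16, 17], .and 22 17, .and 20 18, .and 1 18, .and 1 19, .and 1 19, .and 0 19, .base 0 1362 1 [0], .base 4 541 1 [0, 1, 2], .fin [3710531, 1925872, 1204827, 108879, 1684201, 198656, 169794, 2835198, 1344840, 564136, 4086922, 2666995, 1642074, 1472048, 312487, 4148747, 375609, 3361476, 274624, 65560, 2626013, 2451069]]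

theorem k51 : chkW w51 24 s51 = true := by decide +kernel

theorem b51 : prodB s51 = 24 := by decide +kernel

/-- 52: order 24, 24 -/
def w52 : List ℕ := [1, 0, 1, 0, 2, 0, 1, 0, 2, 0, 1, 0]

def s52 : List Step := [.self 0 7 0, .self 0 3 0, .self 0 1 0, .self 1 1 1, .self 1 9 0, .self 2 9 1, .self 2 9 0, .self 1 5 0, .self 1 5 0, .self 0 2 0, .self 0 6 1, .self 6 8 0, .self 7 8 1, .self 2 8 0, .cnt 2 6 0 8, .base 1 1233 24 [0, 1, 2, 3, 4, 5, 6, 8, 7, 9, 10, 11, 12, 13, 14, 15], .and 19 15, .and 25 16, .andn 26 17, .and 2 17, .and 2 18, .andn 3 19, .andn 3 20, .and 3 20, .and 3 21, .andn 3 22, .and 2 22, .and 2 23, .and 1 23, .and 1 24, .and 1 24, .and 1 25, .and 0 25, .and 2 25, .andn 3 26, .and 2 27, .cnt 37 13 0 0, .cnt 0 11 0 0, .base 0 249 1 [0], .base 6 1923 1 [0, 1], .base 8 2000 1 [0, 1], .base 10 1224 1 [0], .fin [3218200, 2136607, 3949592, 2337183, 477895, 977504, 1574721, 1450921,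 2516977, 1921788, 1921536, 3832867, 3591616, 2976236, 1220987, 2000320, 1409315, 1718501, 588515, 2948991, 2919200, 3002833]]

theorem k52 : chkW w52 24 s52 = true := by decide +kernel

theorem b52 : prodB s52 = 24 := by decide +kernel

/-- 53: order 28, 28 -/
def w53 : List ℕ := [1, 0, 2, 1, 2, 0]

def s53 : List Step := [.fixd 0 14 0, .self 0 1 0, .self 0 2 0, .self 0 4 0, .self 1 4 1, .self 0 5 0, .self 1 5 1, .self 0 9 1, .base 0 1451 28 [0, 1, 2, 3, 4, 5, 6, 7, 8, 9, 10, 11, 12, 13, 14, 15, 16, 17, 18], .and 24 18, .and 23 19, .and 1 19, .and 1 20, .and 1 20, .and 1 21, .and 1 21, .and 1 22, .and 0 22, .and 2 22, .and 1 23, .and 0 23, .and 0 23, .and 0 23, .base 4 2178 1 [0, 1], .base 3 2207 1 [0], .fin [2749321, 255384, 2593001, 2777418, 331723, 3039494, 2828622, 3378021, 2027577, 1967096, 2289677, 2081985, 2578806, 2188539, 2841206, 122316, 3402083, 1228980, 3519443, 3293802, 2043072,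 447218]]

theorem k53 : chkW w53 28 s53 = true := by decide +kernel

theorem b53 : prodB s53 = 28 := by decide +kernel

/-- 54: order 30, 30 -/
def w54 : List ℕ := [1, 0, 2, 0, 1, 2, 0, 1, 2, 1, 2, 1, 0, 2, 1, 0, 2, 0]

def s54 : List Step := [.fixd 0 15 0, .fixd 0 10 0, .fixd 0 6 0, .self 0 1 0, .self 0 2 0, .self 0 3 0, .self 1 3 1, .self 1 4 0, .self 1 5 1, .self 0 6 0, .base 0 672 30 [0, 1, 2, 3, 5, 4, 6, 7, 8, 9, 10, 11, 12, 13, 14, 15, 16, 17, 18, 19, 20], .and 24 20, .and 0 20, .and 0 20, .and 0 20, .and 0 20, .base 0 19 1 [0], .fin [1306519, 2617232, 29862, 8, 106974, 3158627, 3179090, 2328434, 3633982, 1442194, 2921993, 130026, 2128424, 2276795, 322157, 2838621, 1845757, 1839195, 2222209, 3575191, 3743168, 265672]]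

theorem k54 : chkW w54 30 s54 = true := by decide +kernel

theorem b54 : prodB s54 = 30 := by decide +kernel

/-- 55: order 30, 30 -/
def w55 : List ℕ := [0, 1, 2, 0, 1, 0, 2, 1, 2, 1, 0, 2, 1, 2, 0, 1, 0, 2]

def s55 : List Step := [.cnt 2 6 0 12, .cnt 3 7 0 16, .cnt 4 8 0 20, .base 1 375 15 [0], .and 6 0, .andn 7 1, .andn 7 2, .and 11 3, .and 15 4, .andn 9 5, .and 8 6, .andn 9 7, .cnt 7 5 0 0, .cnt 8 6 0 2, .cnt 9 7 0 4, .cnt 9 8 0 2, .cnt 8 9 0 6, .cnt 8 10 0 2, .cnt 8 11 0 0, .cnt 7 12 0 0, .cnt 6 0 0 0, .cnt 7 1 0 1, .cnt 7 2 0 0, .cnt 8 3 0 1, .cnt 3 5 0 0, .cnt 4 6 0 1, .cnt 4 7 0 0, .cnt 5 8 0 1, .cnt 12 9 0 1, .cnt 16 12 0 0, .cnt 17 13 0 2, .cnt 8 14 0 1, .cnt 9 15 0 2, .cnt 4 16 0 1, .cnt 5 17 0 2, .cnt 24 18 0 2, .cnt 9 0 0 0, .cnt 10 1 0 1, .base 20 1233 2 [0, 1], .and 11 1, .and 11 2, .and 18 3, .andn 19 4, .and 19 5, .and 9 6, .and 12 7, .cnt 10 5 0 0, .cnt 21 6 0 0, .cnt 16 7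 0 0, .cnt 19 6 0 0, .cnt 28 7 0 0, .cnt 20 6 0 0, .base 12 1324 1 [0, 1], .base 14 787 1 [0, 1], .base 16 1010 1 [0, 1], .base 17 809 1 [0, 1], .base 19 134 1 [0, 1], .base 20 1951 1 [0], .base 21 358 1 [0, 1], .base 22 425 1 [0, 1], .base 23 74 1 [0], .base 26 1349 1 [0], .base 30 588 1 [0], .base 35 927 1 [0], .fin [2048, 3495520, 2821689, 3339638, 3882718, 4066885, 3436705, 244154, 1406828, 510794, 85011, 4093557, 1909160, 1135394, 740143, 1359406, 1155433, 1995810, 3585094, 2547353, 2094961, 1760557]]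

def p55 : List Step := [.self 0 1 0, .self 0 2 0, .self 1 2 1, .self 1 3 0, .self 2 3 1, .self 2 3 0, .self 2 4 0, .self 2 4 0, .self 2 4 0, .self 2 5 0, .self 3 5 1, .self 2 5 1, .self 2 6 0, .self 3 6 1]

theorem k55 : chkU2 w55 30 p55 s55 = true := by decide +kernel

theorem b55 : prodB s55 = 30 := by decide +kernel

end Cfsg.Agent.H633.Ore.Co2.C10
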