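import Cfsg.Agent.H633.Ore.Co2F0
import Cfsg.Agent.H633.Ore.Co2F1
import Cfsg.Agent.H633.Ore.Co2F2
import Cfsg.Agent.H633.Ore.Co2F3
import Cfsg.Agent.H633.Ore.Co2F4

/-!
# Representatives of the conjugacy classes of `Co2` (helper633)

`cover`: every element of `Co2` is conjugate to one of 56 explicit words in three involutions, or to the inverse of one.
-/

set_option autoImplicit false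

namespace Cfsg.Agent.H633.Ore.Co2

open Cfsg

/-- the data: word, number of elements, fixed points of the powers 4, 7, 9, 10, 15 -/
def data : List Dt := [
  ⟨[], 1, (2300, 2300, 2300, 2300, 2300)⟩,
  ⟨C0.w1, 56925, (2300, 284, 284, 2300, 284)⟩,
  ⟨C0.w2, 28690200, (2300, 52, 52, 2300, 52)⟩,
  ⟨C0.w3, 1024650, (2300, 140, 140, 2300, 140)⟩,
  ⟨C0.w4, 90675200, (5, 5, 2300, 5, 2300)⟩,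
  ⟨C0.w5, 272025600, (41, 41, 2300, 41, 2300)⟩,
  ⟨C1.w6, 344282400, (2300, 40, 40, 140, 40)⟩,
  ⟨C1.w7, 860706000, (2300, 4, 4, 284, 4)⟩,
  ⟨C1.w8, 33051110400, (2300, 0, 0, 52, 0)⟩,
  ⟨C1.w9, 6885648000, (2300, 12, 12, 140, 12)⟩,
  ⟨C1.w10, 6885648000, (2300, 16, 16, 140, 16)⟩,
  ⟨C2.w11, 573804000, (2300, 32, 32, 140, 32)⟩,
  ⟨C2.w12, 13662000, (2300, 28, 28, 284, 28)⟩,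
  ⟨C2.w13, 14101807104, (0, 0, 0, 2300, 2300)⟩,
  ⟨C2.w14, 70509035520, (10, 10, 10, 2300, 2300)⟩,
  ⟨C2.w15, 12241152000, (41, 17, 284, 41, 284)⟩,
  ⟨C3.w16, 146893824000, (41, 7, 52, 41, 52)⟩,
  ⟨C3.w17, 8160768000, (5, 5, 284, 5, 284)⟩,
  ⟨C3.w18, 73446912000, (41, 5, 140, 41, 140)⟩,
  ⟨C3.w19, 9792921600, (41, 11, 284, 41, 284)⟩,
  ⟨C3.w20, 7344691200, (5, 5, 140, 5, 140)⟩,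
  ⟨C4.w21, 755453952000, (4, 2300, 4, 4, 4)⟩,
  ⟨C4.w22, 55085184000, (140, 10, 10, 32, 10)⟩,
  ⟨C4.w23, 82627776000, (284, 0, 0, 4, 0)⟩,
  ⟨C4.w24, 55085184000, (284, 4, 4, 28, 4)⟩,
  ⟨C4.w25, 661022208000, (140, 2, 2, 16, 2)⟩,
  ⟨C5.w26, 165255552000, (140, 6, 6, 32, 6)⟩,
  ⟨C5.w27, 82627776000, (284, 4, 4, 4, 4)⟩,
  ⟨C5.w28, 783433728000, (2, 2, 2300, 2, 5)⟩,
  ⟨C5.w29, 1057635532800, (10, 2, 2, 2300, 52)⟩,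
  ⟨C5.w30, 705090355200, (10, 4, 4, 2300, 284)⟩,
  ⟨C6.w31, 352545177600, (0, 0, 0, 2300, 140)⟩,
  ⟨C6.w32, 3845947392000, (1, 1, 1, 1, 1)⟩,
  ⟨C6.w33, 146893824000, (41, 5, 32, 5, 32)⟩,
  ⟨C6.w34, 48964608000, (5, 1, 28, 5, 28)⟩,
  ⟨C6.w35, 881362944000, (41, 3, 12, 5, 12)⟩,
  ⟨C7.w36, 881362944000, (5, 1, 16, 5, 16)⟩,
  ⟨C7.w37, 146893824000, (5, 5, 32, 5, 32)⟩,
  ⟨C7.w38, 146893824000, (41, 1, 28, 17, 28)⟩,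
  ⟨C7.w39, 440681472000, (41, 1, 40, 5, 40)⟩,
  ⟨C7.w40, 440681472000, (5, 1, 4, 5, 4)⟩,
  ⟨C8.w41, 755453952000, (4, 284, 4, 4, 4)⟩,
  ⟨C8.w42, 3021815808000, (4, 140, 0, 4, 0)⟩,
  ⟨C8.w43, 1410180710400, (1, 1, 10, 41, 2300)⟩,
  ⟨C8.w44, 2820361420800, (0, 0, 0, 5, 2300)⟩,
  ⟨C8.w45, 1322044416000, (4, 2, 2, 4, 2)⟩,
  ⟨C9.w46, 1322044416000, (4, 0, 0, 0, 0)⟩,
  ⟨C9.w47, 2350301184000, (2, 2, 284, 2, 5)⟩,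
  ⟨C9.w48, 2115271065600, (10, 0, 0, 52, 0)⟩,
  ⟨C9.w49, 2115271065600, (0, 0, 0, 140, 40)⟩,
  ⟨C9.w50, 3678732288000, (0, 0, 0, 0, 0)⟩,
  ⟨C10.w51, 1762725888000, (17, 1, 4, 1, 4)⟩,
  ⟨C10.w52, 1762725888000, (5, 1, 10, 5, 10)⟩,
  ⟨C10.w53, 1510907904000, (4, 28, 0, 4, 0)⟩,
  ⟨C10.w54, 1410180710400, (1, 1, 4, 41, 284)⟩,
  ⟨C10.w55, 2820361420800, (0, 0, 0, 5, 140)⟩]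

/-- the 56 words -/
def reps : List (List ℕ) := [
  [],
  [2, 1, 0, 2, 0, 2, 1, 0, 1, 2, 0, 1, 0, 2, 0, 1, 2, 0, 1, 2, 1, 0, 2, 1, 0, 2, 0, 1, 0, 2, 1, 0, 1, 2, 0, 2, 0, 1],
  [1, 0, 2, 1, 0, 1, 2, 0, 1, 0, 2, 1, 0, 1, 2, 0],
  [1, 0, 1, 0, 1, 0, 1, 0],
  [1, 2, 0, 2, 0, 1, 0, 2, 0, 1, 2, 1, 1, 0, 2, 0, 1, 0, 2, 0],
  [2, 0, 2, 0],
  [1, 0, 1, 2, 0, 1, 2, 1, 2, 1, 0, 1, 0, 1, 2, 1, 2, 1, 0, 2, 1, 0],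
  [2, 0, 1, 0, 1, 0, 2, 1, 2, 0, 1, 2, 0, 1, 0, 2, 2, 1, 0, 2, 1, 2, 0, 1],
  [1, 0, 1, 2, 1, 0, 2, 0, 2, 1, 2, 0, 2, 0, 1, 2, 1, 0],
  [2, 1, 0, 1, 2, 0, 1, 2, 1, 0, 2, 1, 0, 1],
  [2, 0, 1, 2, 1, 0],
  [1, 0, 1, 0],
  [2, 0, 1, 2, 0, 1, 2, 1, 2, 0, 2, 1, 0, 2, 0, 1, 2, 0, 2, 1, 2, 1, 0, 2, 1, 0],
  [1, 0, 2, 0, 1, 2, 0, 1, 0, 2, 1, 2, 0, 1, 0, 2, 1, 0, 2, 0],
  [2, 0, 2, 1, 2, 1, 2, 0],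
  [1, 0, 2, 0, 1, 2, 1, 0, 1, 2, 0, 1, 0, 2, 1, 0, 1, 2, 1, 0, 2, 0],
  [0, 2, 1, 0, 1, 0, 2, 0, 1, 2, 0, 1, 0, 2, 0, 1, 0, 1],
  [1, 2, 0, 1, 0, 1, 2, 1, 2, 1, 0, 1, 0, 2],
  [2, 0, 1, 0, 1, 2, 1, 0, 1, 0],
  [1, 0, 1, 0, 2, 1, 0, 1, 0, 2, 1, 2, 0, 1, 0, 1, 2, 0, 1, 0],
  [0, 2, 1, 2, 1, 2, 1, 0, 2, 0, 2, 2, 1, 2, 0, 2, 0, 2, 0, 1, 2, 1],
  [0, 1, 1, 2, 1, 2, 1, 0, 2, 1, 2, 1],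
  [1, 0, 1, 2, 1, 2, 1, 0, 1, 0, 2, 1, 2, 0, 1, 0, 1, 2, 1, 2, 1, 0],
  [0, 2, 1, 0, 1, 0, 2, 0, 0, 1, 0, 1],
  [1, 0, 1, 2, 0, 1, 0, 2, 1, 2, 0, 1, 0, 2, 1, 0],
  [1, 0, 2, 0, 2, 1, 2, 0, 2, 0],
  [1, 0, 1, 0, 2, 1, 2, 0, 1, 0],
  [1, 2, 0, 2, 1, 0, 1, 2, 1, 2, 1, 0, 1, 2, 0, 2],
  [0, 1, 1, 2, 0, 2, 1, 0, 2, 0, 2, 1],
  [1, 0, 2, 0, 1, 2, 0, 2, 1, 2, 0, 2, 1, 0, 2, 0],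
  [0, 1, 1, 2, 0, 1, 2, 1, 0, 2, 1, 0, 2, 1],
  [0, 1, 1, 2, 0, 1, 0, 1, 2, 1, 0, 2, 1, 0, 1, 0, 2, 1],
  [0, 1, 2, 0, 2, 1, 2, 1, 0, 2, 1, 2, 0, 2],
  [1, 0, 2, 0, 1, 0, 1, 2, 0, 2, 0, 1, 0, 2, 0, 2, 1, 0, 1, 0, 2, 0],
  [1, 0, 2, 0, 1, 2, 0, 2, 0, 1, 2, 0, 1, 0, 2, 1, 0, 2, 0, 2, 1, 0, 2, 0],
  [1, 0, 1, 2, 0, 1, 2, 1, 2, 1, 0, 2, 1, 0],
  [0, 2, 1, 0, 1, 2, 0, 2, 1, 2, 0, 1, 2, 0, 2, 1, 0, 1],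
  [1, 0, 2, 1, 2, 1, 0, 2, 1, 2, 0, 1, 2, 1, 2, 0],
  [1, 0, 1, 0, 0, 2, 1, 2, 0, 1, 0, 1, 2, 1, 2, 0],
  [0, 1, 2, 1, 1, 0, 2, 1, 2, 1, 0, 2, 0, 1],
  [1, 0, 1, 2, 1, 2, 1, 0],
  [1, 0, 2, 1, 2, 0, 1, 0, 2, 1, 2, 0],
  [0, 2, 1, 0, 1, 0, 2, 1, 2, 0, 1, 2, 0, 1, 0, 1],
  [1, 0, 2, 0, 0, 1, 0, 2, 1, 0, 2, 0, 1, 1, 2, 0, 1, 0],
  [1, 0, 2, 0, 0, 1, 2, 0, 2, 0, 1, 2, 1, 0],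
  [2, 0, 1, 0, 1, 0, 0, 1, 0, 2, 0, 2, 0, 0, 1, 0, 1, 0, 2, 0, 2, 0, 2, 0, 1, 0],
  [0, 2, 1, 0, 2, 1, 0, 2, 0, 0, 1, 2, 0, 1],
  [1, 2, 0, 1, 2, 1, 2, 1, 0, 2],
  [1, 0, 1, 2, 0, 1, 0, 2, 1, 0],
  [0, 1, 2, 1, 2, 1, 1, 0, 1, 2, 1, 1, 2, 1, 2, 1, 0, 1, 2, 1, 0, 1],
  [0, 1, 1, 2, 1, 0, 2, 1],
  [0, 2, 1, 0, 1, 2, 0, 1, 0, 2, 0, 0, 1, 0, 2, 1, 0, 1],
  [1, 0, 1, 0, 2, 0, 1, 0, 2, 0, 1, 0],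
  [1, 0, 2, 1, 2, 0],
  [1, 0, 2, 0, 1, 2, 0, 1, 2, 1, 2, 1, 0, 2, 1, 0, 2, 0],
  [0, 1, 2, 0, 1, 0, 2, 1, 2, 1, 0, 2, 1, 2, 0, 1, 0, 2]]

theorem reps_eq : data.map Dt.w = reps := by decide +kernel

theorem data_good : ∀ d ∈ data, GE d.w d.q d.k := by
  unfold data
  simp only [List.forall_mem_cons]
  exact ⟨ge_one, g1, g2, g3, g4, g5, g6, g7, g8, g9, g10, g11, g12, g13, g14, g15, g16, g17, g18, g19, g20, g21, g22, g23, g24, g25, g26, g27, g28, g29, g30, g31, g32, g33, g34, g35, g36, g37, g38, g39, g40, g41, g42, g43, g44, g45, g46, g47, g48, g49, g50, g51, g52, g53, g54, g55, fun _ h => absurd h List.not_mem_nil⟩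

theorem data_nodup : (data.map Dt.k).Nodup := by decide +kernel

theorem data_sum : 42305421312000 ≤ (data.map Dt.q).sum := by decide +kernel

/-- **Every element of `Co2` is conjugate to one of the 56 words or to its inverse.** -/
theorem cover (g : Spor.Co2) : ∃ w ∈ reps, IsConj (wd w) g ∨ IsConj (wd w)⁻¹ g := by
  have h := cover_of_data data data_good data_nodup data_sum g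
  rwa [reps_eq] at h

end Cfsg.Agent.H633.Ore.Co2
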