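import Cfsg.Agent.H633.Ore.Co2Chk

/-!
# Certificates for the centralizers in `Co2` (helper633)
-/

set_option autoImplicit false

namespace Cfsg.Agent.H633.Ore.Co2.C0

/-- 1: order 2, 743178240 -/
def w1 : List ℕ := [2, 1, 0, 2, 0, 2, 1, 0, 1, 2, 0, 1, 0, 2, 0, 1, 2, 0, 1, 2, 1, 0, 2, 1, 0, 2, 0, 1, 0, 2, 1, 0, 1, 2, 0, 2, 0, 1]

def s1 : List Step := [.fixd 0 1 0, .fixd 1 1 1, .cnt 0 1 0 1152, .base 0 2019 28 [0], .and 4 0, .andn 5 1, .andn 4 3, .base 1 2265 864 [0, 1], .and 5 1, .andn 6 2, .andn 6 3, .and 6 4, .andn 7 5, .and 4 5, .andn 5 6, .and 5 7, .andn 6 8, .and 6 9, .andn 7 10, .andn 0 13, .cnt 0 7 0 8, .cnt 8 4 0 96, .cnt 1 7 0 128, .cnt 2 8 0 192, .base 12 1540 16 [0], .and 12 0, .andn 13 1, .and 13 2, .andn 14 3, .and 14 4, .andn 13 5, .and 9 6, .andn 10 7, .and 10 8, .cnt 5 2 0 5, .cnt 6 3 0 13, .cnt 5 4 0 5, .cnt 16 0 0 16,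 .base 0 2081 5 [0], .and 14 0, .andn 15 1, .and 15 2, .and 15 3, .andn 8 4, .and 15 5, .andn 13 6, .andn 13 7, .cnt 7 1 0 2, .cnt 8 2 0 4, .cnt 7 3 0 4, .base 3 1557 4 [0], .and 4 0, .andn 5 1, .and 13 2, .and 12 3, .andn 13 4, .andn 23 5, .andn 14 6, .andn 14 7, .cnt 11 1 0 2, .base 11 2031 96 [0, 1], .and 11 1, .and 11 2, .and 5 3, .and 12 4, .andn 13 5, .and 13 6, .and 13 7, .andn 14 8, .and 14 9, .andn 13 10, .and 9 10, .andn 10 11, .and 10 12, .andn 11 13, .andn 11 14, .and 11 15, .andn 11 16, .and 11 17, .andn 11 18, .andn 11 19, .and 10 20, .cnt 7 12 0 0, .cnt 8 13 0 1, .cnt 8 14 0 0, .cnt 8 15 0 1, .cnt 8 16 0 1, .cnt 8 17 0 0, .cnt 8 18 0 2, .cnt 8 19 0 1, .cnt 9 20 0 2, .cnt 9 21 0 0, .cnt 20 3 0 0, .cnt 21 4 0 1, .cnt 21 5 0 0, .cnt 22 6 0 1, .cnt 22 7 0 0, .cnt 14 8 0 0, .cnt 14 9 0 0, .cnt 14 10 0 0, .cnt 14 11 0 0, .cnt 14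 12 0 0, .cnt 14 13 0 0, .cnt 9 13 0 0, .cnt 7 14 0 0, .cnt 6 15 0 0, .cnt 6 16 0 0, .cnt 6 17 0 0, .cnt 5 18 0 0, .cnt 14 18 0 0, .cnt 15 19 0 1, .cnt 15 20 0 0, .cnt 7 20 0 0, .cnt 20 15 0 0, .cnt 21 16 0 1, .cnt 11 17 0 0, .cnt 5 18 0 0, .cnt 5 19 0 0, .cnt 8 16 0 0, .cnt 9 17 0 1, .base 6 1310 1 [0], .base 7 447 1 [0], .base 8 2055 1 [0], .base 7 578 1 [0, 1], .base 9 742 1 [0], .base 14 274 1 [0], .base 15 214 1 [0], .base 22 1786 1 [0], .base 39 1931 1 [0], .base 33 105 1 [0], .base 34 1727 1 [0], .base 35 1724 1 [0], .base 36 289 1 [0], .fin [112527, 3665117, 3895057, 1886394, 2641512, 632813, 598514, 121081, 2910190, 2258972, 1467643, 3165040, 3017816, 1674308, 1212596, 3893477, 3028861, 1088969, 1874435, 1631768, 629137, 289353]]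

theorem k1 : chkW w1 2 s1 = true := by decide +kernel

theorem b1 : prodB s1 = 743178240 := by decide +kernel

/-- 2: order 2, 1474560 -/
def w2 : List ℕ := [1, 0, 2, 1, 0, 1, 2, 0, 1, 0, 2, 1, 0, 1, 2, 0]

def s2 : List Step := [.self 0 1 0, .self 1 1 1, .cnt 1 0 0 512, .cnt 2 1 0 640, .base 2 1500 1024 [0, 1], .and 4 1, .and 4 2, .and 7 3, .andn 8 4, .and 3 4, .andn 4 5, .and 4 6, .and 4 7, .andn 5 8, .and 5 9, .andn 6 10, .andn 1 13, .cnt 5 7 0 6, .cnt 4 8 0 2, .cnt 5 9 0 6, .cnt 3 10 0 2, .cnt 4 11 0 6, .cnt 6 12 0 0, .cnt 7 13 0 4, .cnt 4 1 0 0, .cnt 3 2 0 0, .cnt 2 15 0 10, .base 14 391 360 [0, 1], .and 20 1, .andn 21 2, .and 21 3, .andn 22 4, .and 16 5, .andn 22 6, .andn 17 7, .andn 12 8, .andn 17 9, .andn 13 10, .and 17 11, .andn 14 12, .and 7 12, .andn 8 13, .and 8 14, .andn 8 15, .andn 8 16, .andn 8 17, .andn 8 18, .and 7 19,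 .andn 5 22, .cnt 18 10 0 0, .cnt 18 11 0 0, .cnt 2 12 0 1, .cnt 4 13 0 0, .cnt 12 2 0 0, .cnt 13 3 0 2, .cnt 13 4 0 1, .cnt 14 5 0 2, .cnt 5 6 0 1, .cnt 14 7 0 0, .cnt 14 8 0 2, .cnt 14 9 0 2, .cnt 14 10 0 0, .cnt 9 11 0 0, .cnt 33 3 0 0, .cnt 34 4 0 1, .cnt 15 5 0 0, .cnt 11 6 0 0, .cnt 12 7 0 1, .cnt 12 8 0 0, .cnt 12 9 0 0, .cnt 12 10 0 1, .cnt 7 10 0 0, .cnt 8 11 0 1, .cnt 5 12 0 0, .cnt 6 13 0 1, .cnt 5 14 0 1, .cnt 5 15 0 1, .cnt 10 15 0 0, .cnt 11 16 0 1, .cnt 4 17 0 1, .cnt 11 18 0 0, .cnt 12 19 0 1, .cnt 8 23 0 1, .cnt 3 24 0 0, .cnt 7 25 0 0, .cnt 56 22 0 0, .cnt 57 23 0 1, .cnt 8 24 0 0, .cnt 5 25 0 0, .cnt 5 26 0 0, .cnt 8 27 0 0, .cnt 6 28 0 1, .base 0 830 4 [0, 1], .and 23 1, .andn 24 2, .andn 24 3, .and 44 4, .and 21 5, .and 11 6, .andn 12 7, .and 12 8, .and 12 9, .and 28 10, .and 17 10, .andn 18 11, .and 6 12, .and 27 13,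 .cnt 0 13 0 0, .cnt 24 8 0 0, .cnt 25 9 0 1, .cnt 25 10 0 0, .cnt 26 11 0 1, .cnt 15 12 0 0, .cnt 9 13 0 0, .cnt 10 14 0 1, .cnt 51 13 0 0, .cnt 11 15 0 0, .cnt 54 14 0 0, .base 9 1571 1 [0], .base 10 2163 1 [0], .base 11 597 1 [0], .base 12 2260 1 [0], .base 32 948 1 [0], .base 33 211 1 [0], .base 34 1765 1 [0], .base 14 226 1 [0], .base 18 762 1 [0], .base 23 1129 1 [0], .base 40 1713 1 [0], .base 26 1086 1 [0], .base 27 236 1 [0], .base 27 1716 1 [0], .base 40 1298 1 [0], .base 40 1458 1 [0], .fin [82188, 986272, 875254, 2301177, 1434083, 4111695, 1572960, 2627872, 3431966, 2671842, 224802, 551489, 4102339, 3496305, 656778, 616547, 1043073, 2578658, 3969446, 3591130, 622321, 301149]]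

theorem k2 : chkW w2 2 s2 = true := by decide +kernel

theorem b2 : prodB s2 = 1474560 := by decide +kernel

/-- 3: order 2, 41287680 -/
def w3 : List ℕ := [1, 0, 1, 0, 1, 0, 1, 0]

def s3 : List Step := [.fixd 0 1 0, .fixd 1 1 1, .cnt 1 0 0 84, .cnt 2 1 0 112, .base 2 46 140 [0], .and 3 0, .andn 4 1, .andn 4 2, .andn 7 3, .andn 0 5, .cnt 4 2 0 28, .cnt 1 3 0 0, .base 0 278 3 [0], .and 3 0, .andn 4 1, .and 9 2, .andn 10 3, .andn 6 5, .cnt 11 4 0 128, .cnt 12 5 0 192, .base 2 925 2 [0], .and 7 0, .andn 8 1, .and 8 2, .cnt 6 2 0 128, .base 6 105 16 [0], .and 14 0, .andn 15 1, .and 7 2, .and 7 3, .andn 7 4, .andn 16 5, .andn 8 6, .cnt 5 4 0 64, .cnt 6 5 0 96, .cnt 3 6 0 96, .cnt 3 7 0 32, .base 6 301 128 [0, 1], .and 13 1, .andn 7 2, .and 7 3, .and 13 4, .andn 14 5, .andn 14 6, .andn 10 7, .and 10 8, .andn 11 9, .and 8 9, .and 8 10, .andn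 8 11, .and 8 12, .andn 8 13, .andn 8 14, .and 8 15, .andn 1 18, .cnt 7 8 0 0, .cnt 5 9 0 0, .cnt 5 10 0 1, .cnt 3 11 0 1, .cnt 1 9 0 0, .cnt 4 6 0 2, .cnt 5 7 0 4, .cnt 3 5 0 4, .base 0 1438 24 [0, 1], .and 5 1, .andn 6 2, .and 6 3, .andn 20 4, .andn 20 5, .andn 11 6, .andn 26 7, .and 6 7, .andn 7 8, .and 7 9, .andn 8 10, .and 8 11, .cnt 4 8 0 0, .cnt 5 9 0 1, .cnt 4 10 0 0, .cnt 3 11 0 0, .cnt 25 12 0 0, .cnt 4 12 0 0, .cnt 5 13 0 1, .cnt 10 14 0 0, .cnt 11 15 0 1, .cnt 6 16 0 0, .cnt 6 17 0 0, .cnt 5 17 0 0, .cnt 6 18 0 1, .cnt 2 18 0 0, .cnt 2 15 0 0, .cnt 3 16 0 1, .base 1 538 1 [0, 1], .base 3 884 1 [0, 1], .base 9 1482 1 [0, 1], .base 18 1832 1 [0], .base 25 1079 1 [0], .base 21 2277 1 [0, 1], .base 23 1983 1 [0], .base 24 178 1 [0], .base 22 1057 1 [0], .base 33 637 1 [0], .fin [1139655, 545432, 1381648, 2674324, 3397275, 430045,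 3595629, 2427289, 1647927, 307231, 865420, 2283328, 3653237, 1671209, 4190702, 1968224, 1186717, 3079649, 1861521, 3901506, 681443, 2284815]]

theorem k3 : chkW w3 2 s3 = true := by decide +kernel

theorem b3 : prodB s3 = 41287680 := by decide +kernel

/-- 4: order 3, 466560 -/
def w4 : List ℕ := [1, 2, 0, 2, 0, 1, 0, 2, 0, 1, 2, 1, 1, 0, 2, 0, 1, 0, 2, 0]

def s4 : List Step := [.fixd 0 1 0, .self 0 1 0, .self 1 1 1, .base 1 20 1215 [0, 1, 2], .and 5 2, .andn 6 3, .andn 6 4, .and 2 4, .andn 3 5, .andn 3 6, .andn 3 7, .and 3 7, .andn 4 8, .and 4 9, .andn 4 10, .and 4 11, .andn 1 15, .cnt 5 0 0 26, .cnt 6 1 0 38, .cnt 2 2 0 16, .cnt 0 7 0 32, .cnt 1 8 0 48, .cnt 1 8 0 32, .base 1 1239 16 [0, 1], .and 8 1, .and 8 2, .and 15 3, .andn 16 4, .and 16 5, .andn 17 6, .andn 9 7, .andn 17 8, .and 7 8, .andn 8 9, .and 8 10, .andn 8 11, .and 8 12,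 .andn 9 13, .and 9 14, .andn 9 15, .andn 20 16, .and 9 17, .andn 1 20, .cnt 8 0 0 3, .cnt 11 7 0 4, .cnt 12 8 0 8, .cnt 15 9 0 0, .cnt 0 8 0 8, .cnt 14 6 0 4, .base 13 576 24 [0, 1], .and 7 1, .and 7 2, .and 5 3, .and 11 4, .and 19 5, .and 19 6, .andn 19 7, .and 19 8, .and 12 9, .andn 13 10, .and 9 10, .and 9 11, .and 9 12, .and 9 13, .andn 9 14, .and 9 15, .and 9 16, .andn 9 17, .and 8 18, .cnt 8 10 0 0, .cnt 8 11 0 0, .cnt 8 12 0 0, .cnt 8 13 0 0, .cnt 3 8 0 0, .cnt 4 9 0 1, .cnt 2 10 0 0, .cnt 5 10 0 0, .cnt 3 10 0 0, .cnt 3 11 0 1, .cnt 7 12 0 0, .cnt 4 13 0 0, .cnt 4 13 0 0, .cnt 4 13 0 0, .cnt 5 14 0 1, .cnt 5 15 0 0, .base 2 2128 1 [0, 1, 2], .base 5 1252 1 [0, 1, 2], .base 8 1560 1 [0, 1, 2], .base 15 1584 1 [0, 1], .base 20 714 1 [0, 1], .base 22 748 1 [0, 1], .fin [2695006, 2159801, 32768, 1325932, 715535, 60695, 165459, 1999546,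 1358108, 1664825, 1795735, 884121, 3494590, 3670114, 3633747, 2885724, 1758821, 1044583, 979128, 1594988, 3941827, 3775508]]

theorem k4 : chkW w4 3 s4 = true := by decide +kernel

theorem b4 : prodB s4 = 466560 := by decide +kernel

/-- 5: order 3, 155520 -/
def w5 : List ℕ := [2, 0, 2, 0]

def s5 : List Step := [.fixd 0 1 0, .fixd 1 1 1, .self 1 1 0, .cnt 0 1 0 21, .cnt 1 2 0 24, .cnt 2 3 0 40, .cnt 4 4 0 13, .base 2 772 810 [0, 1, 2], .and 7 2, .andn 8 3, .and 8 4, .andn 9 5, .and 9 6, .andn 10 7, .and 10 8, .andn 11 9, .and 7 9, .andn 8 10, .and 8 11, .and 8 12, .andn 8 13, .and 8 14, .andn 8 15, .and 6 15, .andn 7 16, .and 7 17, .andn 8 18, .andn 8 19, .and 8 20, .andn 8 21, .andn 0 25, .cnt 0 8 0 0, .cnt 8 16 0 8, .cnt 1 17 0 0, .cnt 2 18 0 8, .cnt 20 19 0 8, .cnt 3 0 0 0, .cnt 4 1 0 6, .cnt 4 16 0 16, .cnt 4 17 0 0, .base 11 670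 192 [0, 1, 2], .and 7 2, .and 7 3, .and 21 4, .andn 22 5, .and 22 6, .andn 23 7, .and 23 8, .and 23 9, .and 13 10, .and 13 11, .and 9 11, .andn 10 12, .and 10 13, .and 10 14, .andn 11 15, .and 11 16, .andn 12 17, .andn 12 18, .and 12 19, .andn 12 20, .andn 12 21, .and 10 21, .andn 11 22, .andn 11 23, .and 11 24, .and 11 25, .andn 11 26, .andn 11 27, .and 11 28, .andn 11 29, .andn 11 30, .andn 11 31, .andn 11 32, .cnt 7 24 0 0, .cnt 7 25 0 0, .cnt 7 26 0 0, .cnt 7 27 0 0, .cnt 7 28 0 0, .cnt 7 29 0 0, .cnt 7 30 0 1, .cnt 7 31 0 1, .cnt 7 31 0 0, .cnt 7 32 0 1, .cnt 5 33 0 0, .cnt 21 8 0 0, .cnt 22 9 0 1, .cnt 22 10 0 0, .cnt 22 11 0 0, .cnt 23 12 0 1, .cnt 7 13 0 0, .cnt 3 13 0 0, .cnt 3 14 0 0, .cnt 4 15 0 1, .cnt 4 16 0 0, .cnt 4 17 0 0, .cnt 10 16 0 0, .cnt 11 17 0 1, .cnt 35 17 0 0, .cnt 5 18 0 0, .cnt 5 19 0 0, .cnt 1 19 0 0, .cnt 9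 18 0 0, .cnt 0 18 0 0, .base 5 2037 1 [0, 1, 2], .base 11 898 1 [0, 1, 2], .base 14 792 1 [0], .base 27 2284 1 [0], .base 24 2039 1 [0], .base 14 1414 1 [0, 1, 2], .base 20 1358 1 [0], .base 23 611 1 [0], .base 30 1169 1 [0, 1], .fin [2830535, 928362, 2200260, 1468703, 1937566, 33978, 3158708, 3713135, 997421, 1780193, 756685, 1469471, 3057414, 727836, 3146600, 766897, 1628932, 552403, 1645297, 3068468, 3429336, 3679288]]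

theorem k5 : chkW w5 3 s5 = true := by decide +kernel

theorem b5 : prodB s5 = 155520 := by decide +kernel

end Cfsg.Agent.H633.Ore.Co2.C0
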