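import Cfsg.Agent.H633.Ore.Co2Chk

/-!
# Certificates for the centralizers in `Co2` (helper633)
-/

set_option autoImplicit false

namespace Cfsg.Agent.H633.Ore.Co2.C1

/-- 6: order 4, 122880 -/
def w6 : List ℕ := [1, 0, 1, 2, 0, 1, 2, 1, 2, 1, 0, 1, 0, 1, 2, 1, 2, 1, 0, 2, 1, 0]

def s6 : List Step := [.fixd 0 2 0, .fixd 1 2 1, .fixd 0 1 0, .fixd 1 1 1, .self 3 1 0, .cnt 0 1 0 22, .cnt 3 2 0 16, .cnt 4 3 0 28, .base 4 2001 40 [0], .and 4 0, .andn 5 1, .andn 5 2, .andn 5 3, .andn 10 4, .andn 0 6, .cnt 5 2 0 6, .cnt 6 3 0 8, .cnt 6 4 0 6, .cnt 7 5 0 8, .cnt 7 6 0 8, .cnt 5 7 0 0, .base 0 1179 3 [0], .and 7 0, .andn 8 1, .and 8 2, .and 8 3, .andn 8 4, .cnt 8 4 0 64, .cnt 16 0 0 0, .cnt 17 1 0 8, .base 1 1303 4 [0], .and 9 0, .andn 10 1, .and 10 2, .and 9 3, .cnt 3 1 0 32, .cnt 7 0 0 0, .base 2 72 64 [0, 1, 2, 3], .and 6 3, .andn 7 4,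 .and 11 5, .and 11 6, .and 22 7, .andn 21 8, .and 11 9, .and 6 9, .and 6 10, .and 6 11, .and 6 12, .and 6 13, .andn 6 14, .and 6 15, .and 6 15, .andn 7 16, .and 6 17, .and 6 18, .and 6 19, .andn 6 20, .and 2 20, .cnt 4 7 0 0, .cnt 3 8 0 0, .cnt 2 14 0 0, .cnt 1 15 0 0, .cnt 5 16 0 2, .base 0 2037 4 [0, 1, 2, 3], .and 16 3, .andn 17 4, .and 17 5, .and 12 6, .andn 13 7, .and 4 7, .andn 5 8, .and 13 9, .and 4 9, .cnt 0 7 0 0, .cnt 17 8 0 0, .cnt 18 9 0 1, .cnt 4 9 0 0, .cnt 7 8 0 0, .cnt 8 9 0 1, .base 1 1116 1 [0, 1, 2], .base 4 879 1 [0], .base 14 2199 1 [0, 1], .base 21 536 1 [0], .base 16 1242 1 [0], .base 17 1261 1 [0], .base 18 847 1 [0], .base 19 277 1 [0], .fin [3150382, 2650436, 1983476, 3342643, 1163062, 982650, 550058, 3945877, 4099603, 1435257, 4084486, 2623138, 1037664, 3973854, 578441, 4136127, 891598, 3104818, 3180376,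 697510, 3243754, 3672749]]

theorem k6 : chkW w6 4 s6 = true := by decide +kernel

theorem b6 : prodB s6 = 122880 := by decide +kernel

/-- 7: order 4, 49152 -/
def w7 : List ℕ := [2, 0, 1, 0, 1, 0, 2, 1, 2, 0, 1, 2, 0, 1, 0, 2, 2, 1, 0, 2, 1, 2, 0, 1]

def s7 : List Step := [.fixd 0 2 0, .fixd 1 2 1, .fixd 0 1 0, .fixd 1 1 1, .self 3 1 0, .self 4 1 1, .self 3 1 0, .cnt 2 0 0 12, .cnt 3 1 0 16, .base 5 1565 4 [0], .and 5 0, .andn 6 1, .andn 9 3, .base 1 351 768 [0, 1, 2, 3], .and 11 3, .and 11 4, .and 9 5, .andn 10 6, .and 9 7, .and 4 7, .andn 5 8, .and 5 9, .andn 6 10, .and 6 11, .andn 7 12, .andn 7 13, .and 6 13, .andn 6 14, .andn 6 15, .and 6 16, .and 6 17, .andn 6 18, .andn 6 19, .andn 2 19, .andn 2 20, .andn 2 21, .cnt 9 6 0 4, .cnt 0 1 0 4, .cnt 1 2 0 8, .cnt 11 3 0 4, .cnt 6 4 0 4, .cnt 2 12 0 8, .cnt 1 13 0 8, .cnt 8 14 0 12,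 .base 25 1971 2 [0], .and 3 0, .and 3 1, .cnt 10 1 0 4, .cnt 11 2 0 6, .cnt 8 3 0 4, .cnt 11 4 0 3, .base 4 1985 8 [0, 1, 2], .and 7 2, .andn 7 3, .and 7 4, .andn 7 5, .andn 13 6, .and 4 6, .andn 4 7, .and 1 7, .cnt 0 5 0 0, .cnt 1 6 0 1, .cnt 0 6 0 0, .cnt 1 7 0 1, .cnt 3 7 0 0, .cnt 4 8 0 1, .cnt 1 7 0 0, .cnt 2 8 0 1, .cnt 2 9 0 0, .cnt 3 10 0 1, .base 3 1787 1 [0, 1, 2], .base 6 1583 1 [0, 1, 2], .base 9 1695 1 [0], .base 10 1092 1 [0], .base 19 1618 1 [0, 1], .base 21 1911 1 [0, 1], .base 33 2212 1 [0], .fin [3667071, 2724902, 3254952, 3766558, 2632712, 58272, 3940818, 1087533, 3100810, 769736, 4071201, 2951300, 3039171, 2749917, 3820705, 1643105, 1639922, 3039901, 3153064, 1217716, 2011805, 8562]]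

theorem k7 : chkW w7 4 s7 = true := by decide +kernel

theorem b7 : prodB s7 = 49152 := by decide +kernel

/-- 8: order 4, 1280 -/
def w8 : List ℕ := [1, 0, 1, 2, 1, 0, 2, 0, 2, 1, 2, 0, 2, 0, 1, 2, 1, 0]

def s8 : List Step := [.fixd 0 2 0, .fixd 1 2 1, .self 1 1 0, .self 2 1 1, .self 2 1 0, .self 2 2 0, .self 3 2 1, .self 3 2 1, .cnt 2 3 0 0, .cnt 3 4 0 12, .cnt 4 5 0 16, .cnt 2 0 0 0, .cnt 3 1 0 64, .cnt 3 6 0 224, .cnt 3 7 0 224, .cnt 8 8 0 256, .base 11 1447 20 [0, 1], .and 5 1, .and 5 2, .andn 6 3, .and 6 4, .andn 7 5, .andn 16 6, .and 5 6, .andn 6 7, .and 2 8, .cnt 15 6 0 8, .cnt 0 2 0 24, .cnt 4 3 0 12, .cnt 9 7 0 16, .cnt 4 8 0 16, .base 1 376 4 [0, 1, 2], .and 10 2, .and 17 3, .andn 18 4, .and 2 4, .andn 3 5, .and 19 6, .andn 20 7, .and 11 8, .cnt 15 3 0 4, .cnt 16 4 0 8, .cnt 16 5 0 2, .cnt 9 6 0 8, .cnt 9 7 0 8, .cnt 7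 8 0 8, .cnt 7 9 0 8, .cnt 7 10 0 6, .cnt 5 7 0 2, .cnt 6 8 0 4, .cnt 0 5 0 2, .cnt 3 7 0 4, .cnt 45 6 0 0, .cnt 0 6 0 0, .base 2 1386 16 [0, 1, 2, 3], .and 18 3, .and 18 4, .and 12 5, .and 11 6, .and 27 7, .and 4 7, .andn 5 8, .and 5 9, .and 5 10, .andn 6 11, .and 6 12, .andn 7 13, .and 7 14, .and 4 14, .and 3 15, .and 2 15, .cnt 6 4 0 0, .cnt 2 5 0 0, .cnt 2 6 0 0, .base 24 435 1 [0, 1], .base 16 662 1 [0, 1], .base 18 1911 1 [0], .base 19 1850 1 [0], .base 15 640 1 [0, 1], .base 15 1844 1 [0], .base 16 2116 1 [0, 1], .base 18 842 1 [0, 1], .fin [3107632, 1816701, 1441384, 3130715, 2877012, 3849506, 1994332, 3730656, 3653699, 2794571, 690327, 2740, 2362083, 2585934, 1649814, 1439203, 2205120, 4134735, 1678499, 2845567, 1956329, 46598]]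

theorem k8 : chkW w8 4 s8 = true := by decide +kernel

theorem b8 : prodB s8 = 1280 := by decide +kernel

/-- 9: order 4, 6144 -/
def w9 : List ℕ := [2, 1, 0, 1, 2, 0, 1, 2, 1, 0, 2, 1, 0, 1]

def s9 : List Step := [.self 0 1 0, .cnt 0 0 0 576, .cnt 1 1 0 608, .cnt 2 2 0 624, .cnt 3 3 0 640, .cnt 4 4 0 704, .cnt 4 4 0 16, .cnt 5 5 0 20, .cnt 5 6 0 30, .cnt 5 7 0 34, .cnt 6 8 0 36, .cnt 6 9 0 32, .cnt 0 5 0 8, .base 6 780 12 [0, 1], .and 8 1, .andn 9 2, .and 9 3, .and 9 4, .andn 10 5, .andn 8 6, .and 2 6, .andn 3 7, .andn 3 8, .andn 18 11, .cnt 0 4 0 0, .cnt 1 5 0 16, .cnt 1 5 0 0, .cnt 23 6 0 0, .cnt 2 6 0 32, .base 2 278 2 [0], .and 9 0, .andn 10 1, .cnt 4 0 0 0, .cnt 18 1 0 32, .cnt 19 2 0 48, .base 16 2283 16 [0, 1], .and 24 1, .andn 25 2, .and 6 3, .and 6 4, .and 26 5, .andn 23 6, .and 13 7, .andn 23 8, .and 38 9, .and 4 9, .andn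 5 10, .and 4 11, .andn 5 12, .andn 4 13, .andn 33 16, .cnt 0 14 0 8, .cnt 0 12 0 0, .cnt 1 13 0 8, .cnt 8 0 0 1, .cnt 2 11 0 16, .cnt 16 7 0 4, .cnt 10 8 0 8, .cnt 16 9 0 4, .cnt 17 10 0 12, .cnt 10 11 0 8, .cnt 1 4 0 0, .cnt 24 3 0 0, .cnt 24 4 0 0, .base 39 1636 2 [0], .and 18 0, .andn 19 1, .andn 19 2, .cnt 38 2 0 0, .cnt 39 3 0 8, .cnt 16 4 0 4, .cnt 10 5 0 8, .cnt 15 2 0 0, .cnt 11 5 0 0, .base 19 2275 2 [0, 1], .and 11 1, .and 11 2, .cnt 5 1 0 0, .cnt 17 2 0 2, .cnt 10 3 0 1, .cnt 22 4 0 2, .cnt 47 2 0 0, .base 12 716 2 [0, 1], .and 5 1, .and 9 2, .and 6 3, .and 2 3, .andn 3 4, .and 14 5, .and 3 6, .cnt 21 5 0 1, .cnt 0 4 0 1, .cnt 12 2 0 0, .base 16 406 2 [0, 1], .and 9 1, .and 9 2, .and 9 3, .and 7 3, .cnt 7 2 0 0, .base 36 198 1 [0], .base 2 1407 1 [0, 1], .base 30 2053 1 [0], .base 11 223 1 [0, 1], .base 13 1628 1 [0, 1],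 .base 14 1412 1 [0], .base 17 740 1 [0], .fin [1464904, 183395, 1605015, 484425, 681815, 3796784, 2496349, 331776, 3396799, 1938965, 1213291, 32, 1255713, 3006917, 1120277, 3550256, 3666983, 1747042, 892556, 3305858, 1907314, 1193415]]

theorem k9 : chkW w9 4 s9 = true := by decide +kernel

theorem b9 : prodB s9 = 6144 := by decide +kernel

/-- 10: order 4, 6144 -/
def w10 : List ℕ := [2, 0, 1, 2, 1, 0]

def s10 : List Step := [.fixd 0 2 0, .fixd 1 2 1, .fixd 0 1 0, .fixd 1 1 1, .self 3 1 0, .self 2 1 0, .self 3 1 1, .cnt 2 3 0 8, .cnt 3 4 0 10, .cnt 3 5 0 8, .cnt 6 6 0 0, .cnt 7 7 0 8, .cnt 4 1 0 0, .cnt 5 2 0 2, .base 7 2051 64 [0, 1], .and 3 1, .andn 4 2, .and 10 3, .and 10 4, .and 14 5, .andn 15 6, .and 11 7, .and 6 7, .and 6 8, .and 6 9, .andn 5 10, .and 5 11, .andn 0 14, .cnt 2 9 0 6, .cnt 1 10 0 6, .cnt 7 0 0 1, .cnt 0 2 0 2,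 .cnt 8 3 0 4, .cnt 4 8 0 16, .base 0 1595 3 [0, 1], .and 5 1, .andn 6 2, .and 14 3, .and 1 3, .andn 2 4, .andn 9 5, .cnt 24 3 0 16, .cnt 22 4 0 8, .cnt 34 1 0 0, .cnt 35 2 0 2, .base 3 1337 2 [0], .and 11 0, .andn 12 1, .and 10 2, .andn 11 3, .cnt 10 3 0 8, .cnt 9 4 0 8, .cnt 13 0 0 2, .base 2 1172 16 [0, 1, 2, 3], .and 15 3, .and 15 4, .and 13 5, .andn 13 6, .andn 13 7, .andn 13 8, .andn 11 9, .and 6 9, .andn 7 10, .and 7 11, .and 7 12, .andn 8 13, .andn 8 14, .andn 8 15, .and 8 16, .andn 8 17, .and 5 17, .andn 6 18, .and 0 18, .andn 1 19, .cnt 12 8 0 0, .cnt 12 9 0 0, .cnt 12 10 0 0, .cnt 13 11 0 1, .cnt 7 12 0 0, .cnt 4 12 0 0, .cnt 2 13 0 0, .cnt 1 13 0 0, .cnt 5 14 0 0, .cnt 6 15 0 1, .cnt 3 15 0 0, .cnt 6 16 0 0, .cnt 13 17 0 0, .cnt 14 18 0 1, .cnt 12 18 0 0, .base 7 100 1 [0, 1], .base 3 53 1 [0, 1], .base 12 816 1 [0], .base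 13 1648 1 [0], .base 14 1519 1 [0], .base 15 2194 1 [0, 1], .base 17 47 1 [0, 1], .base 19 1260 1 [0], .base 35 491 1 [0], .fin [2705525, 3809430, 3846763, 656654, 2400672, 388510, 1005930, 1577368, 931974, 1465485, 1428366, 2262607, 2854102, 322035, 63790, 176047, 1400620, 2003495, 2977863, 1530646, 3469933, 3187890]]

theorem k10 : chkW w10 4 s10 = true := by decide +kernel

theorem b10 : prodB s10 = 6144 := by decide +kernel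

end Cfsg.Agent.H633.Ore.Co2.C1
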